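import Groth.Agent.AbSch.K452.GlueRep
import Groth.Agent.AbSch.K452.TorsKit

/-!
# Extensions of abelian schemes by abelian schemes: from representability to the group scheme

`0 → A → E → T → 0` exact on the big fppf site of `S`, `A` and `T` abelian schemes.
* `isRep_of_isRepresentable`: if the sheaf of sets `E` is representable, then it is represented over `T`;
* `exists_grp`: then `E` is the sheaf of points of an abelian scheme.
-/

set_option autoImplicit false
universe u
open CategoryTheory CategoryTheory.Limits MonoidalCategory CartesianMonoidalCategory MonObj AlgebraicGeometry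
open CGrpSh Opposite

namespace K615.RepAb

open K452.NSplit K594.Elem K594.Cover K594.FamRep AlgSp K452.GlueRep
open K452.TorsRep hiding map_up up_inj

variable {S : Scheme.{u}}
variable {A T : Over S} [GrpObj A] [IsCommMonObj A] [GrpObj T] [IsCommMonObj T]
variable {E : BigSite.Ab Scheme.fppfPrecoverage S} (i : pts Scheme.fppfPrecoverage A ⟶ E)
  (q : E ⟶ pts Scheme.fppfPrecoverage T) (w : i ≫ q = 0) (hex : (ShortComplex.mk i q w).ShortExact)

omit [GrpObj A] [IsCommMonObj A] in
theorem isRep_of_isRepresentable (h : (sets.obj E).obj.IsRepresentable) :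
    ∃ (V : Over S) (v : V ⟶ T) (ξ : E.obj.obj (op V)),
      IsRep (sets.map q) (U := T) (up (𝟙 T) : (sets.obj (pts Scheme.fppfPrecoverage T)).obj.obj (op T)) v ξ := by
  obtain ⟨V, ⟨ρ⟩⟩ := h.has_representation
  let ξ : E.obj.obj (op V) := ρ.homEquiv (𝟙 V)
  have hρ : ∀ {W : Over S} (a : W ⟶ V), ρ.homEquiv a = E.obj.map a.op ξ := by
    intro W a
    have h1 := ρ.homEquiv_comp a (𝟙 V)
    rw [Category.comp_id] at h1
    exact h1
  obtain ⟨v, hv⟩ := exists_up (q.hom.app (op V) ξ)
  refine ⟨V, v, ξ, ⟨?_, ?_, ?_⟩⟩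
  · exact hv.trans (map_up_id v).symm
  · intro W a b _ hab
    apply ρ.homEquiv.injective
    rw [hρ, hρ]
    exact hab
  · intro W t x hx
    obtain ⟨a, ha⟩ := ρ.homEquiv.surjective x
    rw [hρ] at ha
    refine ⟨a, ?_, ha⟩
    have h1 : q.hom.app (op W) x = up t := by
      have h2 : q.hom.app (op W) x = (pts Scheme.fppfPrecoverage T).obj.map t.op (up (𝟙 T)) := hx
      rw [h2, map_up_id]
    have h3 : q.hom.app (op W) x = up (a ≫ v) := by
      have h4 : E.obj.map a.op ξ = x := ha
      rw [← h4, K452.NSplit.app_map, hv]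
      rfl
    exact K452.NSplit.up_inj (h3.symm.trans h1)

include hex in
/-- Extensions of an abelian scheme by an abelian scheme which are representable, with all the properties. -/
theorem exists_grp' [Smooth A.hom] [IsProper A.hom] (hA : ∀ s : S, ConnectedSpace ↥(A.hom.fiber s))
    [Smooth T.hom] [IsProper T.hom] (hT : ∀ s : S, ConnectedSpace ↥(T.hom.fiber s)) {V : Over S} {v : V ⟶ T}
    {ξ : E.obj.obj (op V)}
    (hV : IsRep (sets.map q) (U := T) (up (𝟙 T) : (sets.obj (pts Scheme.fppfPrecoverage T)).obj.obj (op T)) v ξ) :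
    ∃ (G : Over S) (_ : GrpObj G) (_ : IsCommMonObj G) (u : A ⟶ G) (v : G ⟶ T) (_ : IsMonHom u) (_ : IsMonHom v)
      (e : (CGrpSh.pts Scheme.fppfPrecoverage G) ≅ E),
      CGrpSh.ptsMap Scheme.fppfPrecoverage u ≫ e.hom = i ∧ e.hom ≫ q = CGrpSh.ptsMap Scheme.fppfPrecoverage v ∧
      Smooth G.hom ∧ IsProper G.hom ∧ (∀ s : S, ConnectedSpace ↥(G.hom.fiber s)) ∧ Smooth v.left ∧
      Surjective v.left := by
  obtain ⟨g1, g2, e, hv, h1⟩ := K452.TorsRep.exists_grp_of_isRep q v ξ hV
  have a1 : Smooth v.left := smooth_v i q w hex hV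
  have a2 : IsProper v.left := isProper_v i q w hex hV
  have a3 : GeometricallyConnected A.hom := K452.ConnFib.geometricallyConnected A hA
  have a4 : GeometricallyConnected v.left := geometricallyConnected_v i q w hex hV
  have a8 : GeometricallyConnected T.hom := K452.ConnFib.geometricallyConnected T hT
  have hVh : V.hom = v.left ≫ T.hom := (Over.w v).symm
  have a9 : GeometricallyConnected V.hom := by
    rw [hVh]
    exact GeometricallyConnected.comp _ _
  have := K594.Local.surjective.{u}
  have hAs : Surjective A.hom := ⟨fun s => ⟨η[A].left s, by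
    rw [← Scheme.Hom.comp_apply, Over.w]
    rfl⟩⟩
  have a10 : Surjective v.left := prop_v i q w hex hV @Surjective hAs
  subst h1
  refine ⟨V, g1, g2, K731.Full.hom (i ≫ e.inv), K731.Full.hom (e.hom ≫ q), inferInstance, inferInstance, e, ?_, ?_,
    ?_, ?_, fun s => inferInstance, a1, a10⟩
  · rw [K731.Full.ptsMap_hom, Category.assoc, e.inv_hom_id, Category.comp_id]
  · rw [K731.Full.ptsMap_hom]
  · rw [hVh]
    infer_instance
  · rw [hVh]
    infer_instance

include hex in
/-- Extensions of an abelian scheme by an abelian scheme which are representable, with all the properties. -/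
theorem exists_grp [Smooth A.hom] [IsProper A.hom] (hA : ∀ s : S, ConnectedSpace ↥(A.hom.fiber s))
    [Smooth T.hom] [IsProper T.hom] (hT : ∀ s : S, ConnectedSpace ↥(T.hom.fiber s)) {V : Over S} {v : V ⟶ T}
    {ξ : E.obj.obj (op V)}
    (hV : IsRep (sets.map q) (U := T) (up (𝟙 T) : (sets.obj (pts Scheme.fppfPrecoverage T)).obj.obj (op T)) v ξ) :
    ∃ (G : Over S) (_ : GrpObj G) (_ : IsCommMonObj G) (u : A ⟶ G) (v : G ⟶ T) (_ : IsMonHom u) (_ : IsMonHom v)
      (e : (CGrpSh.pts Scheme.fppfPrecoverage G) ≅ E),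
      CGrpSh.ptsMap Scheme.fppfPrecoverage u ≫ e.hom = i ∧ e.hom ≫ q = CGrpSh.ptsMap Scheme.fppfPrecoverage v ∧
      Smooth G.hom ∧ IsProper G.hom ∧ ∀ s : S, ConnectedSpace ↥(G.hom.fiber s) := by
  obtain ⟨G, g1, g2, u, v, h1, h2, e, h3, h4, h5, h6, h7, -⟩ := exists_grp' i q w hex hA hT hV
  exact ⟨G, g1, g2, u, v, h1, h2, e, h3, h4, h5, h6, h7⟩

end K615.RepAb
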