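import Groth.Agent.Neron.K188.AmpSq
import Groth.Agent.Sga7.H730.Bc

/-!
# General points on abelian schemes

* `exists_translates`: over an algebraically closed field, given finitely many rational points `t` and a nonempty open
  `V`, some rational point `z` has all `t z ∈ V`.
* `exists_point`: given `x : G` there is a point `y` of `G × G × G` over `x` (first projection) such that
  `b`, `c`, `ab`, `ac`, `bc`, `abc` map `y` into a given open `V` containing the unit section.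
-/

set_option autoImplicit false
universe u

open CategoryTheory Limits MonoidalCategory CartesianMonoidalCategory AlgebraicGeometry TopologicalSpace
open scoped MonObj
open Groth.Agent.Sga7.H730.Tr Groth.Agent.Sga7.H730.Bc Groth.Agent.Sga7.H729.Dict

namespace K615.GenPts

variable {K : Type u} [Field K] {A : Over (Spec (CommRingCat.of K))} [GrpObj A]

theorem exists_translates [IsAlgClosed K] [IsProper A.hom] [GeometricallyIntegral A.hom]
    (V : A.left.Opens) (hV : (V : Set A.left).Nonempty)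
    (ts : List (𝟙_ (Over (Spec (CommRingCat.of K))) ⟶ A)) :
    ∃ z : 𝟙_ (Over (Spec (CommRingCat.of K))) ⟶ A, ∀ t ∈ ts, K506.Transl.pt (t * z) ∈ V := by
  have hint : IsIntegral A.left := GeometricallyIntegral.isIntegral_of_subsingleton A.hom
  have : JacobsonSpace A.left := LocallyOfFiniteType.jacobsonSpace A.hom
  have key : ∃ O : A.left.Opens, (O : Set A.left).Nonempty ∧ ∀ t ∈ ts, O ≤ (tr t).left ⁻¹ᵁ V := by
    induction ts with
    | nil => exact ⟨⊤, hV.mono (fun _ _ => trivial), by simp⟩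
    | cons t ts ih =>
      obtain ⟨O, hO, h⟩ := ih
      have hiso : IsIso (tr t).left := isIso_tr_left t
      have hne : (((tr t).left ⁻¹ᵁ V : A.left.Opens) : Set A.left).Nonempty := by
        obtain ⟨v, hv⟩ := hV
        obtain ⟨w, hw⟩ := (tr t).left.surjective v
        exact ⟨w, show (tr t).left w ∈ V by rw [hw]; exact hv⟩
      have hdense := O.2.dense hO
      obtain ⟨x, hx1, hx2⟩ := hdense.inter_open_nonempty _ ((tr t).left ⁻¹ᵁ V).2 hne
      refine ⟨(tr t).left ⁻¹ᵁ V ⊓ O, ⟨x, hx1, hx2⟩, fun s hs => ?_⟩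
      rcases List.mem_cons.mp hs with rfl | hs
      · exact inf_le_left
      · exact inf_le_right.trans (h s hs)
  obtain ⟨O, ⟨x, hx⟩, h⟩ := key
  obtain ⟨y, hy, hyc⟩ := nonempty_inter_closedPoints (X := A.left) (Z := (O : Set A.left)) ⟨x, hx⟩
    O.2.isLocallyClosed
  obtain ⟨a, ha⟩ := K506.Transl.exists_point (X := A) y hyc
  refine ⟨a, fun t ht => ?_⟩
  have h1 : a ≫ tr t = t * a := by
    rw [comp_tr, Subsingleton.elim (toUnit (𝟙_ (Over (Spec (CommRingCat.of K))))) (𝟙 _), Category.id_comp]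
  change (t * a).left _ ∈ V
  rw [← h1, Over.comp_left, Scheme.Hom.comp_apply]
  change (tr t).left (K506.Transl.pt a) ∈ V
  rw [ha]
  exact h t ht hy

variable {S : Scheme.{u}} (G : Over S) [GrpObj G] [IsProper G.hom] [GeometricallyIntegral G.hom]

theorem exists_point (V : G.left.Opens) (hV : ∀ s : S, (η : 𝟙_ (Over S) ⟶ G).left s ∈ V) (x : G.left) :
    ∃ y : ((G ⊗ G) ⊗ G : Over S).left,
      (fst (G ⊗ G) G ≫ fst G G).left y = x ∧
      (fst (G ⊗ G) G ≫ snd G G).left y ∈ V ∧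
      (snd (G ⊗ G) G).left y ∈ V ∧
      ((fst (G ⊗ G) G ≫ fst G G) * (fst (G ⊗ G) G ≫ snd G G) : (G ⊗ G) ⊗ G ⟶ G).left y ∈ V ∧
      ((fst (G ⊗ G) G ≫ fst G G) * (snd (G ⊗ G) G) : (G ⊗ G) ⊗ G ⟶ G).left y ∈ V ∧
      ((fst (G ⊗ G) G ≫ snd G G) * (snd (G ⊗ G) G) : (G ⊗ G) ⊗ G ⟶ G).left y ∈ V ∧
      ((fst (G ⊗ G) G ≫ fst G G) * (fst (G ⊗ G) G ≫ snd G G) * (snd (G ⊗ G) G) :
        (G ⊗ G) ⊗ G ⟶ G).left y ∈ V := by
  let κ := G.left.residueField x
  let Ω := AlgebraicClosure κ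
  let xb : Spec (CommRingCat.of Ω) ⟶ G.left :=
    Spec.map (CommRingCat.ofHom (algebraMap κ Ω)) ≫ G.left.fromSpecResidueField x
  let f : Spec (CommRingCat.of Ω) ⟶ S := xb ≫ G.hom
  have hxb : ∀ z, xb z = x := by
    intro z
    change (Spec.map (CommRingCat.ofHom (algebraMap κ Ω)) ≫ G.left.fromSpecResidueField x) z = x
    rw [Scheme.Hom.comp_apply, Scheme.fromSpecResidueField_apply]
  let T' : Over S := (Over.map f).obj (𝟙_ (Over (Spec (CommRingCat.of Ω))))
  let τx : T' ⟶ G := Over.homMk xb (Category.id_comp f).symm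
  let A := Red.bc f G
  have h1 : IsProper A.hom := (inferInstance : IsProper (pullback.snd G.hom f))
  have h2 : GeometricallyIntegral A.hom := (inferInstance : GeometricallyIntegral (pullback.snd G.hom f))
  let x' : 𝟙_ (Over (Spec (CommRingCat.of Ω))) ⟶ A := (bcPts f G _).symm τx
  have hx' : bcPts f G _ x' = τx := (bcPts f G _).apply_symm_apply _
  let W : A.left.Opens := (pr f G) ⁻¹ᵁ V
  have hpt : ∀ a : 𝟙_ (Over (Spec (CommRingCat.of Ω))) ⟶ A, K506.Transl.pt a ∈ W ↔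
      (bcPts f G _ a).left (IsLocalRing.closedPoint Ω) ∈ V := by
    intro a
    rw [bcPts_left, Scheme.Hom.comp_apply]
    rfl
  have hW : (W : Set A.left).Nonempty := by
    refine ⟨K506.Transl.pt (1 : 𝟙_ (Over (Spec (CommRingCat.of Ω))) ⟶ A), (hpt _).mpr ?_⟩
    rw [map_one]
    have h3 : (1 : T' ⟶ G).left = T'.hom ≫ (η : 𝟙_ (Over S) ⟶ G).left := rfl
    change (1 : T' ⟶ G).left (IsLocalRing.closedPoint Ω) ∈ V
    rw [h3, Scheme.Hom.comp_apply]
    exact hV _
  obtain ⟨b, hb⟩ := exists_translates (A := A) W hW [1, x']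
  obtain ⟨c, hc⟩ := exists_translates (A := A) W hW [1, x', b, x' * b]
  have hb1 := hb 1 (by simp)
  have hb2 := hb x' (by simp)
  have hc1 := hc 1 (by simp)
  have hc2 := hc x' (by simp)
  have hc3 := hc b (by simp)
  have hc4 := hc (x' * b) (by simp)
  rw [one_mul] at hb1 hc1
  rw [hpt] at hb1 hb2 hc1 hc2 hc3 hc4
  rw [map_mul] at hb2 hc2 hc3 hc4
  rw [map_mul] at hc4
  rw [hx'] at hb2 hc2 hc4
  let y : T' ⟶ (G ⊗ G) ⊗ G := lift (lift τx (bcPts f G _ b)) (bcPts f G _ c)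
  have ea : y ≫ fst (G ⊗ G) G ≫ fst G G = τx := by rw [lift_fst_assoc, lift_fst]
  have eb : y ≫ fst (G ⊗ G) G ≫ snd G G = bcPts f G _ b := by rw [lift_fst_assoc, lift_snd]
  have ec : y ≫ snd (G ⊗ G) G = bcPts f G _ c := by rw [lift_snd]
  have key : ∀ (g : (G ⊗ G) ⊗ G ⟶ G) (t : T' ⟶ G), y ≫ g = t →
      g.left (y.left (IsLocalRing.closedPoint Ω)) = t.left (IsLocalRing.closedPoint Ω) := by
    rintro g t rfl
    rw [Over.comp_left, Scheme.Hom.comp_apply]
  refine ⟨y.left (IsLocalRing.closedPoint Ω), ?_, ?_, ?_, ?_, ?_, ?_, ?_⟩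
  · rw [key _ _ ea]
    exact hxb _
  · rw [key _ _ eb]
    exact hb1
  · rw [key _ _ ec]
    exact hc1
  · rw [key _ _ (by rw [MonObj.comp_mul, ea, eb])]
    exact hb2
  · rw [key _ _ (by rw [MonObj.comp_mul, ea, ec])]
    exact hc2
  · rw [key _ _ (by rw [MonObj.comp_mul, eb, ec])]
    exact hc3
  · rw [key _ _ (by rw [MonObj.comp_mul, MonObj.comp_mul, ea, eb, ec])]
    exact hc4

end K615.GenPts
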