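import Groth.Agent.AbSch.K615.NormCart
import Groth.Agent.AbSch.K615.GenPts
import Groth.Agent.AbSch.K449.Cube
import Groth.Agent.Dix.IdealModCartier
import Groth.Agent.S10855
import Groth.Agent.CalgA.SerreLocal
import Groth.Agent.Ega4dA.SmoothStalk
import Groth.Agent.Ega4dB.SmoothReg
import Groth.Agent.S2821

/-!
# Divisors on abelian schemes over normal bases

`S` normal locally Noetherian, `G/S` an abelian scheme, `V ⊆ G` open, affine over `G`, containing the unit section.
* `isEffCartierIdeal_J`: the reduced complement of `V` is an effective Cartier divisor.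
-/

set_option autoImplicit false
universe u

open CategoryTheory Limits MonoidalCategory CartesianMonoidalCategory AlgebraicGeometry TopologicalSpace
open scoped MonObj
open Groth.Agent.Fdesc.LocGen Groth.Agent.Grpsch.PicGrp Groth.Agent.Dix.IdealModCartier
open Groth.Agent.Divis.CartierBasic Groth.Agent.Divis.CartierStalk
open Groth.Agent.Sga7.H730.Bc Groth.Agent.Sga7.H729.Dict
open K615.NormCart

namespace K615.CubeGen

section Pic

variable {X A T : Scheme.{u}} (V : X.Opens)

theorem comap_eq_top (q : T ⟶ X) (h : ∀ y, q y ∈ V) : (J V).comap q = ⊤ := by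
  refine ext_stalkIdeal fun y => ?_
  rw [stalkIdeal_comap, stalkIdeal_of_mem V (h y), stalkIdeal_top, Ideal.map_top]

theorem genOn_top : GenOn (⊤ : X.IdealSheafData) (1 : Γ(X, ⊤)) := by
  intro W hW
  rw [map_one]
  refine ⟨one_mem _, ?_⟩
  rw [Ideal.span_singleton_one]
  rfl

theorem isEff_top : BlowUp.IsEffCartierIdeal (⊤ : X.IdealSheafData) := by
  intro x
  obtain ⟨W, hxW⟩ := exists_affine x
  exact ⟨W, hxW, 1, one_mem _, by rw [Ideal.span_singleton_one]; rfl⟩

theorem pull_eq_one (j : A ⟶ X) (hD : BlowUp.IsEffCartierIdeal ((J V).comap j)) (t : T ⟶ A)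
    (ht : ∀ z, (t ≫ j) z ∈ V) : pull t (mk _ (isInvertible_idealMod hD)) = 1 := by
  have h1 : ((J V).comap j).comap t = ⊤ := by
    rw [← Scheme.IdealSheafData.comap_comp]
    exact comap_eq_top V _ ht
  rw [pull_mk, mk_eq_one_iff]
  obtain ⟨e⟩ := pullback_idealMod t hD (by rw [h1]; exact isEff_top)
  rw [h1] at e
  obtain ⟨e'⟩ := idealMod_principal (genOn_top (X := T))
  exact ⟨e ≪≫ e'.symm⟩

theorem exists_gen (j : A ⟶ X) (hD : BlowUp.IsEffCartierIdeal ((J V).comap j)) (t : T ⟶ A)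
    (hD' : BlowUp.IsEffCartierIdeal ((J V).comap (t ≫ j)))
    (h : pull t (mk _ (isInvertible_idealMod hD)) = 1) :
    ∃ a : Γ(T, ⊤), GenOn ((J V).comap (t ≫ j)) a := by
  rw [Scheme.IdealSheafData.comap_comp] at hD'
  rw [pull_mk, mk_eq_one_iff] at h
  obtain ⟨e⟩ := h
  obtain ⟨e'⟩ := pullback_idealMod t hD hD'
  obtain ⟨m, hm⟩ := Groth.Agent.Grpsch.CubeData.triv_iff.mp
    (⟨e'.symm ≪≫ e⟩ : Groth.Agent.Grpsch.CubeData.Triv (ClSub.idealMod (((J V).comap j).comap t)))
  refine ⟨val _ m, ?_⟩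
  rw [Scheme.IdealSheafData.comap_comp]
  exact genOn_of_isGen hm

/-- the stalks of an ideal with a global generator -/
theorem stalkIdeal_of_genOn {I : T.IdealSheafData} {a : Γ(T, ⊤)} (h : GenOn I a) (z : T) :
    stalkIdeal I z = Ideal.span {(T.presheaf.germ ⊤ z trivial).hom a} := by
  obtain ⟨W, hzW⟩ := exists_affine z
  rw [stalkIdeal_eq I W hzW, (h W le_top).2, Ideal.map_span, Set.image_singleton]
  congr 2
  exact congrArg (fun k => k.hom a) (T.presheaf.germ_res (homOfLE (le_top : W.1 ≤ ⊤)) z hzW)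

theorem eq_span_of_map {A B : Type u} [CommRing A] [CommRing B] (φ : A →+* B) (hφ : Function.Bijective φ)
    (I : Ideal A) (x : A) (y : B) (hxy : φ x = y) (h : I.map φ = Ideal.span {y}) : I = Ideal.span {x} := by
  subst hxy
  have h6 : I.map φ = (Ideal.span {x}).map φ := by
    rw [h, Ideal.map_span, Set.image_singleton]
  have h7 := congrArg (Ideal.comap φ) h6
  rwa [Ideal.comap_map_of_bijective _ hφ, Ideal.comap_map_of_bijective _ hφ] at h7

theorem germ_topIso (O : T.Opens) (a : Γ(O.toScheme, ⊤)) (z : O.toScheme) :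
    (O.ι.stalkMap z).hom ((T.presheaf.germ O (O.ι z) z.2).hom ((Scheme.Opens.topIso O).hom.hom a)) =
      (O.toScheme.presheaf.germ ⊤ z trivial).hom a := by
  have h0 : ((Scheme.Opens.topIso O).hom ≫ T.presheaf.germ O (O.ι z) z.2) ≫ O.ι.stalkMap z =
      O.toScheme.presheaf.germ ⊤ z trivial := by
    rw [Category.assoc, Scheme.Hom.germ_stalkMap]
    have h6 : (Scheme.Opens.topIso O).hom ≫ O.ι.app O = O.toScheme.presheaf.map (homOfLE le_top).op := by
      simp only [Scheme.Opens.topIso, Scheme.Opens.ι_app]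
      change T.presheaf.map _ ≫ T.presheaf.map _ = T.presheaf.map _
      rw [← Functor.map_comp]
      rfl
    rw [← Category.assoc, h6]
    exact O.toScheme.presheaf.germ_res (homOfLE le_top) z _
  exact congrArg (fun k => k.hom a) h0

/-- a global generator on an open subscheme -/
theorem exists_section_of_open (I : T.IdealSheafData) (O : T.Opens) (a : Γ(O.toScheme, ⊤))
    (h : GenOn (I.comap O.ι) a) :
    ∃ b : Γ(T, O), ∀ (z : T) (hz : z ∈ O), stalkIdeal I z = Ideal.span {(T.presheaf.germ O z hz).hom b} := by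
  refine ⟨(Scheme.Opens.topIso O).hom.hom a, fun z hz => ?_⟩
  have h1 := stalkIdeal_of_genOn h ⟨z, hz⟩
  rw [stalkIdeal_comap] at h1
  have h2 : Function.Bijective (O.ι.stalkMap ⟨z, hz⟩).hom := by
    have : IsIso (O.ι.stalkMap ⟨z, hz⟩) := inferInstance
    exact ConcreteCategory.bijective_of_isIso (O.ι.stalkMap ⟨z, hz⟩)
  exact eq_span_of_map (O.ι.stalkMap ⟨z, hz⟩).hom h2 _ _ _ (germ_topIso O a ⟨z, hz⟩) h1

theorem isEff_comap [IsLocallyNoetherian X] [IsAffineHom V.ι] (hd : Dense (V : Set X)) (hX : Pi1.IsNormalScheme X)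
    [IsLocallyNoetherian T] (hT : Pi1.IsNormalScheme T) (q : T ⟶ X) [Flat q]
    (h : ∀ z, (stalkIdeal (J V) (q z)).IsPrincipal) : BlowUp.IsEffCartierIdeal ((J V).comap q) := by
  refine isEffCartierIdeal_of_stalkIdeal _ fun z _ => ?_
  obtain ⟨g, hg, hg'⟩ := exists_nonZeroDivisor V hd (q z) (hX _).1 (h z)
  have h0 := (hT z).1
  have h1 := (hX (q z)).1
  refine ⟨(q.stalkMap z).hom g, mem_nonZeroDivisors_of_ne_zero ?_, ?_⟩
  · let : Algebra (X.presheaf.stalk (q z)) (T.presheaf.stalk z) := (q.stalkMap z).hom.toAlgebra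
    have hflat : Module.Flat (X.presheaf.stalk (q z)) (T.presheaf.stalk z) := Flat.stalkMap q z
    have hloc : IsLocalHom (algebraMap (X.presheaf.stalk (q z)) (T.presheaf.stalk z)) :=
      (inferInstance : IsLocalHom (q.stalkMap z).hom)
    have hff : Module.FaithfullyFlat (X.presheaf.stalk (q z)) (T.presheaf.stalk z) :=
      Module.FaithfullyFlat.of_flat_of_isLocalHom
    have hinj : Function.Injective (algebraMap (X.presheaf.stalk (q z)) (T.presheaf.stalk z)) :=
      FaithfulSMul.algebraMap_injective _ _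
    intro h2
    exact nonZeroDivisors.ne_zero hg (hinj (h2.trans (map_zero _).symm))
  · rw [stalkIdeal_comap, hg', Ideal.map_span, Set.image_singleton]

end Pic

section Main

variable {S : Scheme.{u}} (G : Over S) [GrpObj G] [IsProper G.hom] [Smooth G.hom] [GeometricallyIntegral G.hom]

omit [IsProper G.hom] [Smooth G.hom] in
theorem dense_of_unit (V : G.left.Opens) (hV : ∀ s : S, (η : 𝟙_ (Over S) ⟶ G).left s ∈ V) :
    Dense (V : Set G.left) := by
  rw [dense_iff_inter_open]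
  rintro O hO ⟨o, ho⟩
  set s := G.hom o with hs
  have hη : G.hom ((η : 𝟙_ (Over S) ⟶ G).left s) = s := by
    rw [← Scheme.Hom.comp_apply, Over.w (η : 𝟙_ (Over S) ⟶ G)]
    rfl
  have hmem : ∀ g : G.left, G.hom g = s → g ∈ Set.range (G.hom.fiberι s) := by
    intro g hg
    rw [G.hom.range_fiberι]
    exact hg
  obtain ⟨o', ho'⟩ := hmem o rfl
  obtain ⟨v', hv'⟩ := hmem _ hη
  have hirr : IrreducibleSpace (G.hom.fiber s) := inferInstance
  obtain ⟨w, hw1, hw2⟩ := hirr.toPreirreducibleSpace.isPreirreducible_univ _ _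
    ((G.hom.fiberι s ⁻¹ᵁ V).2) (hO.preimage (G.hom.fiberι s).continuous)
    ⟨v', trivial, by change G.hom.fiberι s v' ∈ V; rw [hv']; exact hV s⟩
    ⟨o', trivial, by change G.hom.fiberι s o' ∈ O; rw [ho']; exact ho⟩
  exact ⟨G.hom.fiberι s w, hw2.2, hw2.1⟩

theorem isPrincipal [IsLocallyNoetherian S] (hS : Pi1.IsNormalScheme S) (V : G.left.Opens) [IsAffineHom V.ι]
    (hV : ∀ s : S, (η : 𝟙_ (Over S) ⟶ G).left s ∈ V) (x : G.left) : (stalkIdeal (J V) x).IsPrincipal := by
  have hd := dense_of_unit G V hV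
  have hNG : IsLocallyNoetherian G.left := LocallyOfFiniteType.isLocallyNoetherian G.hom
  have hnG : Pi1.IsNormalScheme G.left := fun z => Groth.Agent.Ega4dA.SmoothStalk.stalk_of_smooth hS G.hom z
  -- the open subset of the base
  let U : S.Opens := ⟨(G.hom '' {x : G.left | (stalkIdeal (J V) x).IsPrincipal}ᶜ)ᶜ,
    (G.hom.isClosedMap _ (isOpen_principal hnG V hd).isClosed_compl).isOpen_compl⟩
  have hU1 : ∀ z : G.left, G.hom z ∈ U → (stalkIdeal (J V) z).IsPrincipal := by
    intro z hz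
    by_contra hcon
    exact hz ⟨z, hcon, rfl⟩
  have hU2 : ∀ s : S, ringKrullDim (S.presheaf.stalk s) ≤ 1 → s ∈ U := by
    rintro s hs ⟨z, hz, rfl⟩
    apply hz
    have hd1 := (hS (G.hom z)).1
    have hd2 := (hS (G.hom z)).2
    have hreg : IsRegularLocalRing (S.presheaf.stalk (G.hom z)) :=
      Groth.Agent.CalgA.SerreLocal.isRegularLocalRing_of_isIntegrallyClosed hs
    have hreg' := Groth.Agent.Ega4dB.SmoothReg.isRegularLocalRing_stalk_of_smooth G.hom z hreg
    have hufd := Groth.Agent.S2821.result (G.left.presheaf.stalk z)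
    exact isPrincipal_of_ufd V hd z hufd.1 hufd.2
  obtain ⟨y, hya, hyb, hyc, hyab, hyac, hybc, hyabc⟩ := K615.GenPts.exists_point G V hV x
  let P : Over S := (G ⊗ G) ⊗ G
  let a : P ⟶ G := fst (G ⊗ G) G ≫ fst G G
  let b : P ⟶ G := fst (G ⊗ G) G ≫ snd G G
  let c : P ⟶ G := snd (G ⊗ G) G
  have hsm1 : Smooth (fst G G).left := (inferInstance : Smooth (pullback.fst G.hom G.hom))
  have hsm2 : Smooth (G ⊗ G : Over S).hom := (inferInstance : Smooth (pullback.fst G.hom G.hom ≫ G.hom))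
  have hsm3 : Smooth (fst (G ⊗ G) G).left := (inferInstance : Smooth (pullback.fst (G ⊗ G : Over S).hom G.hom))
  have hsmP : Smooth P.hom :=
    (inferInstance : Smooth (pullback.fst (G ⊗ G : Over S).hom G.hom ≫ (G ⊗ G : Over S).hom))
  have hsma : Smooth a.left := (inferInstance : Smooth ((fst (G ⊗ G) G).left ≫ (fst G G).left))
  have hNP : IsLocallyNoetherian P.left := LocallyOfFiniteType.isLocallyNoetherian P.hom
  have hnP : Pi1.IsNormalScheme P.left := fun z => Groth.Agent.Ega4dA.SmoothStalk.stalk_of_smooth hS P.hom z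
  let N : P.left.Opens := b.left ⁻¹ᵁ V ⊓ (c.left ⁻¹ᵁ V ⊓ ((a * b).left ⁻¹ᵁ V ⊓ ((a * c).left ⁻¹ᵁ V ⊓
    ((b * c).left ⁻¹ᵁ V ⊓ (a * b * c).left ⁻¹ᵁ V))))
  let O : P.left.Opens := N ⊓ a.left ⁻¹ᵁ (G.hom ⁻¹ᵁ U)
  -- base change to `U`
  let A := Red.bc U.ι G
  let j : A.left ⟶ G.left := pr U.ι G
  have hjo : IsOpenImmersion j := (inferInstance : IsOpenImmersion (pullback.fst G.hom U.ι))
  have hA1 : IsProper A.hom := (inferInstance : IsProper (pullback.snd G.hom U.ι))
  have hA2 : Smooth A.hom := (inferInstance : Smooth (pullback.snd G.hom U.ι))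
  have hA3 : GeometricallyIntegral A.hom := (inferInstance : GeometricallyIntegral (pullback.snd G.hom U.ι))
  have hNA : IsLocallyNoetherian A.left := LocallyOfFiniteType.isLocallyNoetherian A.hom
  have hjU : ∀ z : A.left, G.hom (j z) ∈ U := by
    intro z
    have h1 : j ≫ G.hom = A.hom ≫ U.ι := pullback.condition
    rw [← Scheme.Hom.comp_apply, h1, Scheme.Hom.comp_apply]
    exact (A.hom z).2
  have hnA : Pi1.IsNormalScheme A.left := fun z => by
    have := Groth.Agent.Ega4dA.SmoothStalk.stalk_of_smooth hnG j z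
    exact this
  have hD : BlowUp.IsEffCartierIdeal ((J V).comap j) :=
    isEff_comap V hd hnG hnA j fun z => hU1 _ (hjU z)
  let L : Pic A.left := mk _ (isInvertible_idealMod hD)
  -- the points
  have hOU : Set.range (O.ι ≫ P.hom) ⊆ Set.range U.ι := by
    rintro _ ⟨z, rfl⟩
    rw [Scheme.Opens.range_ι]
    have h1 : (O.ι ≫ P.hom) z = G.hom (a.left (O.ι z)) := by
      rw [Scheme.Hom.comp_apply, ← Over.w a, Scheme.Hom.comp_apply]
    rw [h1]
    exact z.2.2
  let T : Over (U : Scheme.{u}) := Over.mk (IsOpenImmersion.lift U.ι (O.ι ≫ P.hom) hOU)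
  let TS : Over S := (Over.map U.ι).obj T
  let ιP : TS ⟶ P := Over.homMk O.ι (IsOpenImmersion.lift_fac U.ι (O.ι ≫ P.hom) hOU).symm
  have key : ∀ d : P ⟶ G, N ≤ d.left ⁻¹ᵁ V →
      K449.Cube.pl ((bcPts U.ι G T).symm (ιP ≫ d)) L = 1 := by
    intro d hdN
    refine pull_eq_one V j hD _ fun z => ?_
    have h1 : ((bcPts U.ι G T).symm (ιP ≫ d)).left ≫ j = (ιP ≫ d).left := by
      have h2 := bcPts_left U.ι G T ((bcPts U.ι G T).symm (ιP ≫ d))
      rw [MulEquiv.apply_symm_apply] at h2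
      exact h2.symm
    rw [h1, Over.comp_left, Scheme.Hom.comp_apply]
    exact hdN z.2.1
  have hcube := K449.Cube.cubeExpr_eq_one_of_geometricallyIntegral L ((bcPts U.ι G T).symm (ιP ≫ a))
    ((bcPts U.ι G T).symm (ιP ≫ b)) ((bcPts U.ι G T).symm (ιP ≫ c))
  have hone : K449.Cube.pl (1 : T ⟶ A) L = 1 := by
    have h1 := key 1 (fun z _ => by
      have h3 : (1 : P ⟶ G).left = P.hom ≫ (η : 𝟙_ (Over S) ⟶ G).left := rfl
      change (1 : P ⟶ G).left z ∈ V
      rw [h3, Scheme.Hom.comp_apply]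
      exact hV _)
    rwa [MonObj.comp_one, map_one] at h1
  have hL : K449.Cube.pl ((bcPts U.ι G T).symm (ιP ≫ a)) L = 1 := by
    have em : ∀ d d' : P ⟶ G, (bcPts U.ι G T).symm (ιP ≫ d) * (bcPts U.ι G T).symm (ιP ≫ d') =
        (bcPts U.ι G T).symm (ιP ≫ (d * d')) := fun d d' => by
      rw [MonObj.comp_mul, map_mul]
    rw [K449.Cube.cubeExpr, em a b, em (a * b) c, em a c, em b c, hone,
      key (a * b * c) (fun z hz => hz.2.2.2.2.2), key b (fun z hz => hz.1), key c (fun z hz => hz.2.1),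
      key (a * b) (fun z hz => hz.2.2.1), key (a * c) (fun z hz => hz.2.2.2.1),
      key (b * c) (fun z hz => hz.2.2.2.2.1)] at hcube
    simpa using hcube
  have hcomp : ((bcPts U.ι G T).symm (ιP ≫ a)).left ≫ j = O.ι ≫ a.left := by
    have h2 := bcPts_left U.ι G T ((bcPts U.ι G T).symm (ιP ≫ a))
    rw [MulEquiv.apply_symm_apply] at h2
    exact h2.symm
  have hNO : IsLocallyNoetherian (O : Scheme.{u}) := inferInstance
  have hnO : Pi1.IsNormalScheme (O : Scheme.{u}) := fun z =>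
    Groth.Agent.Ega4dA.SmoothStalk.stalk_of_smooth hnP O.ι z
  obtain ⟨g, hg⟩ := exists_gen V j hD ((bcPts U.ι G T).symm (ιP ≫ a)).left (by
    rw [hcomp]
    exact isEff_comap V hd hnG hnO (O.ι ≫ a.left) fun z => hU1 _ z.2.2) hL
  rw [hcomp, Scheme.IdealSheafData.comap_comp] at hg
  obtain ⟨g', hg'⟩ := exists_section_of_open _ O g hg
  have hfin := isPrincipal_of_flat a.left hnG hnP V hd (G.hom ⁻¹ᵁ U) (fun z hz => by
    refine hU2 _ ((K618.Dim.stalkDim_le_of_flat G.hom z).trans hz)) y N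
    ⟨hyb, hyc, hyab, hyac, hybc, hyabc⟩ g' hg'
  have hay : a.left y = x := hya
  rwa [hay] at hfin

/-- **The complement of `V` is an effective Cartier divisor.** -/
theorem isEffCartierIdeal_J [IsLocallyNoetherian S] (hS : Pi1.IsNormalScheme S) (V : G.left.Opens) [IsAffineHom V.ι]
    (hV : ∀ s : S, (η : 𝟙_ (Over S) ⟶ G).left s ∈ V) : BlowUp.IsEffCartierIdeal (J V) := by
  have hNG : IsLocallyNoetherian G.left := LocallyOfFiniteType.isLocallyNoetherian G.hom
  exact K615.NormCart.isEffCartierIdeal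
    (fun z => Groth.Agent.Ega4dA.SmoothStalk.stalk_of_smooth hS G.hom z) V (dense_of_unit G V hV)
    (isPrincipal G hS V hV)

end Main

end K615.CubeGen
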