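import Groth.Agent.AbSch.K615.RepAb
import Groth.Agent.AbSch.K630.Dens
import Groth.Agent.AbSch.K448.SmoothConn
import Groth.Agent.AbVar.K505.Complement
import Groth.Agent.AlgSt.K750.AutSch2
import Groth.Agent.AlgSp.K636.QcqsOver
import Groth.Agent.S10535
import Groth.Agent.S10120

/-!
# Extensions of abelian varieties by abelian varieties over a field

* `isRepresentable`: such an extension (on the big fppf site) is a scheme;
* `exists_ns`: it has an `n`-splitting for some `n > 0`.
-/

set_option autoImplicit false
universe u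
open CategoryTheory CategoryTheory.Limits MonoidalCategory CartesianMonoidalCategory MonObj AlgebraicGeometry
open CGrpSh Opposite

namespace K615.FieldNS

open K452.NSplit K594.Elem K594.Cover K594.FamRep AlgSp K452.GlueRep
open K452.TorsRep hiding map_up up_inj

section

variable {k : Type u} [Field k] {A T : Over (Spec (CommRingCat.of k))} [GrpObj A] [IsCommMonObj A] [GrpObj T]
  [IsCommMonObj T]
variable {E : BigSite.Ab Scheme.fppfPrecoverage (Spec (CommRingCat.of k))} (i : pts Scheme.fppfPrecoverage A ⟶ E)
  (q : E ⟶ pts Scheme.fppfPrecoverage T) (w : i ≫ q = 0) (hex : (ShortComplex.mk i q w).ShortExact)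

/-- The morphism to the base. -/
noncomputable def toBase {S : Scheme.{u}} (F : Sp S) : F ⟶ (yon S).obj (Over.mk (𝟙 S)) :=
  ⟨{ app := fun T => TypeCat.ofHom (fun _ => (ULift.up (Over.mkIdTerminal.from T.unop) :
        ((yon S).obj (Over.mk (𝟙 S))).obj.obj T))
     naturality := fun T T' f => by
      apply ConcreteCategory.hom_ext
      intro x
      exact congrArg ULift.up (Over.mkIdTerminal.hom_ext _ _) }⟩

/-- The group structure on an abelian sheaf. -/
theorem exists_grpObj {S : Scheme.{u}} (E : BigSite.Ab Scheme.fppfPrecoverage S) :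
    Nonempty (GrpObj (Over.mk (toBase (sets.obj E)))) := by
  obtain ⟨G, -⟩ := K895.GrpSh.exists_grpObj (B := (yon S).obj (Over.mk (𝟙 S)))
    (A := fun s => Multiplicative (E.obj.obj (op s.base)))
    (res := fun {s s'} σ => AddMonoidHom.toMultiplicative (E.obj.map σ.hom.op).hom) (G := Over.mk (toBase (sets.obj E)))
    (fun s => (K750.AutSch.overEquiv (toBase (sets.obj E)) s).trans
      (secEquiv.trans (Multiplicative.ofAdd (α := E.obj.obj (op s.base))))) (by
      intro s s' σ k
      exact (GrothendieckTopology.uliftYonedaEquiv_naturality _ _ _).symm)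
  exact ⟨G⟩

include w hex in
theorem isSeparatedSp [IsSeparated A.hom] [IsSeparated T.hom] : IsSeparatedSp (sets.obj E) := by
  have h1 : IsSeparatedMor (K452.TorsKit.proj q) := by
    refine K452.TorsKit.prop_proj i q w hex (Groth.Agent.S10535.result _) fun U => ?_
    rw [isSeparatedMor_yon_map_iff]
    exact inferInstanceAs (IsSeparated (pullback.snd A.hom U.hom))
  refine K636.QcqsOver.repWith_diag_of_diagonal h1 ?_
  rw [repWith_diag_yon_iff]
  infer_instance

include w hex in
/-- An extension of separated group schemes over a field is a scheme. -/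
theorem isRepresentable [IsSeparated A.hom] [IsSeparated T.hom] : (sets.obj E).obj.IsRepresentable := by
  obtain ⟨G⟩ := exists_grpObj E
  exact Groth.Agent.S10120.result k (Over.mk (toBase (sets.obj E))) (K452.TorsKit.isAlgSpace i q w hex)
    (isSeparatedSp i q w hex)

end

section NS

open Groth.Agent.Etdl.H432.Sec K452.HomPts K771.HomEv K630.AbExt

variable {k : Type u} [Field k] {A T : Over (Spec (CommRingCat.of k))} [GrpObj A] [IsCommMonObj A] [GrpObj T]
  [IsCommMonObj T]

/-- Extensions of abelian varieties have `n`-splittings. -/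
theorem exists_ns [Smooth A.hom] [IsProper A.hom] [GeometricallyConnected A.hom] [Smooth T.hom] [IsProper T.hom]
    [GeometricallyConnected T.hom] (D : Dat T A) : ∃ n : ℕ, 0 < n ∧ D.NS n (𝟙_ (Over (Spec (CommRingCat.of k)))) := by
  obtain ⟨V, v₀, ξ₀, hV⟩ := RepAb.isRep_of_isRepresentable D.q (isRepresentable D.i D.q D.w D.ex)
  obtain ⟨G, g1, g2, u, v, h1, h2, e, h3, h4, h5, h6, h7, h8, h9⟩ := RepAb.exists_grp' D.i D.q D.w D.ex
    (fun s => inferInstance) (fun s => inferInstance) hV
  have hG : GeometricallyConnected G.hom := K452.ConnFib.geometricallyConnected G h7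
  have hGi : GeometricallyIntegral G.hom := K448.SmoothConn.geometricallyIntegral G.hom
  have hAi : GeometricallyIntegral A.hom := K448.SmoothConn.geometricallyIntegral A.hom
  have hmono : Mono u := by
    refine ⟨fun {W} a b hab => ?_⟩
    apply sec_inj
    apply D.i_inj
    have h : ∀ c : W ⟶ A, m D.i W (sec c) = m e.hom W (sec (c ≫ u)) := by
      intro c
      rw [← h3]
      rfl
    rw [h, h, hab]
  have hcl : IsClosedImmersion u.left := by
    have : Mono u.left := inferInstance
    have : IsProper u.left := by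
      have : IsProper (u.left ≫ G.hom) := by rw [Over.w]; infer_instance
      exact IsProper.of_comp u.left G.hom
    exact (IsClosedImmersion.iff_isProper_and_mono _).mpr ⟨inferInstance, inferInstance⟩
  obtain ⟨p, n, hp, hn, hup⟩ := K505.Image.exists_retraction_up_to_isogeny G A u
  refine ⟨n, hn, ?_⟩
  -- the universal section
  let ξ : Γs D.E G := m e.hom G (sec (𝟙 G))
  have hξ : ∀ {W : Over (Spec (CommRingCat.of k))} (x : W ⟶ G), r D.E x ξ = m e.hom W (sec x) := by
    intro W x
    rw [← m_r, r_sec, Category.comp_id]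
  have hq : m D.q G ξ = sec v := by
    have h10 : m D.q G ξ = m (e.hom ≫ D.q) G (sec (𝟙 G)) := rfl
    rw [h10, h4]
    change sec (𝟙 G ≫ v) = sec v
    rw [Category.id_comp]
  obtain ⟨σ, hσ, -⟩ := Dat.ns_of_cover (D := D) v (Dat.cov_of v) (n := n) (n • ξ - m D.i G (sec p)) (by
      rw [map_sub, map_nsmul, hq, D.q_i, sub_zero]) (fun {W} x y z hxyz => by
      have hx : ∀ x : W ⟶ G, r D.E x (n • ξ - m D.i G (sec p)) = n • m e.hom W (sec x) - m D.i W (sec (x ≫ p)) := by
        intro x
        rw [map_sub, map_nsmul, hξ, ← m_r, r_sec]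
      rw [hx, hx, hx]
      -- the difference comes from `A`
      obtain ⟨a, ha⟩ := D.exists_i (m e.hom W (sec x) + m e.hom W (sec y) - m e.hom W (sec z)) (by
        rw [map_sub, map_add, ← hξ, ← hξ, ← hξ, m_r, m_r, m_r, hq, r_sec, r_sec, r_sec, ← sec_mul, hxyz, sub_self])
      have ha1 : m D.i W a = m e.hom W (sec (pt a ≫ u)) := by
        rw [← h3]
        rfl
      have ha2 : x * y * z⁻¹ = pt a ≫ u := by
        apply sec_inj
        have hinj : Function.Injective (m e.hom W) := by
          intro s t hst
          have h10 : m (e.hom ≫ e.inv) W s = m (e.hom ≫ e.inv) W t := by rw [m_comp, m_comp, hst]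
          rwa [e.hom_inv_id] at h10
        apply hinj
        have hinv : sec z⁻¹ = - sec z := by
          rw [eq_neg_iff_add_eq_zero, ← sec_mul, inv_mul_cancel, sec_one]
        rw [← ha1, ha, sec_mul, sec_mul, hinv, map_add, map_add, map_neg, sub_eq_add_neg]
      have ha3 : (x ≫ p) * (y ≫ p) * (z ≫ p)⁻¹ = (pt a) ^ n := by
        rw [← MonObj.mul_comp, ← GrpObj.inv_comp, ← MonObj.mul_comp, ha2, Category.assoc, hup, MonObj.comp_pow,
          Category.comp_id]
      have ha4 : m D.i W (sec (x ≫ p)) + m D.i W (sec (y ≫ p)) - m D.i W (sec (z ≫ p)) = n • m D.i W a := by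
        have hinv : sec (z ≫ p)⁻¹ = - sec (z ≫ p) := by
          rw [eq_neg_iff_add_eq_zero, ← sec_mul, inv_mul_cancel, sec_one]
        have h10 := congrArg (fun t => m D.i W (sec t)) ha3
        simp only [sec_mul, hinv, map_add, map_neg, sec_pow, map_nsmul, sec_pt] at h10
        rw [← h10, sub_eq_add_neg]
      rw [← sub_eq_zero]
      have h11 : n • (m e.hom W (sec x) + m e.hom W (sec y) - m e.hom W (sec z)) = n • m e.hom W (sec x) +
        n • m e.hom W (sec y) - n • m e.hom W (sec z) := by rw [smul_sub, smul_add]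
      rw [ha, h11] at ha4
      have h12 := sub_eq_zero.mpr ha4
      rw [← neg_eq_zero, ← h12]
      abel)
  exact ⟨σ, hσ⟩

end NS

end K615.FieldNS
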