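import Groth.Agent.Neron.K188.FinPts
import Groth.Agent.AbSch.K451.FinPts
import Groth.Agent.Ega43.DvrScheme

/-!
# Sections of proper schemes over normal local rings from limits along discrete valuation rings

`B` a normal noetherian local domain with fraction field `F`, `g : G ⟶ Spec B` proper, `ξ : Spec F ⟶ G` a section over
the generic point.
* `core`: if the limits of `ξ` along discrete valuation rings dominating `B` have one geometric point, then `ξ` extends
  to a section over `Spec B`.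
-/

set_option autoImplicit false
universe u

open CategoryTheory CategoryTheory.Limits AlgebraicGeometry

namespace K615.GraphCore

/-- Common field extensions of points. -/
theorem exists_field {X Y Z : Scheme.{u}} (f : X ⟶ Z) (g : Y ⟶ Z) (x : X) (y : Y) (h : f x = g y) :
    ∃ (Ω : Type u) (_ : Field Ω) (a : Spec (CommRingCat.of Ω) ⟶ X) (b : Spec (CommRingCat.of Ω) ⟶ Y),
      a ≫ f = b ≫ g ∧ a (IsLocalRing.closedPoint Ω) = x ∧ b (IsLocalRing.closedPoint Ω) = y := by
  obtain ⟨t, ht1, ht2⟩ := Scheme.Pullback.exists_preimage_pullback (f := f) (g := g) x y h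
  let a := (pullback f g).fromSpecResidueField t
  have ha : a (IsLocalRing.closedPoint ((pullback f g).residueField t)) = t :=
    Scheme.fromSpecResidueField_apply _ _
  refine ⟨(pullback f g).residueField t, inferInstance, a ≫ pullback.fst f g, a ≫ pullback.snd f g, ?_, ?_, ?_⟩
  · rw [Category.assoc, Category.assoc, pullback.condition]
  · rw [Scheme.Hom.comp_apply]
    exact (congrArg _ ha).trans ht1
  · rw [Scheme.Hom.comp_apply]
    exact (congrArg _ ha).trans ht2

theorem epi_spec_field {Ω Ω' : Type u} [Field Ω] [Field Ω'] (v : Spec (CommRingCat.of Ω) ⟶ Spec (CommRingCat.of Ω')) :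
    Epi v := by
  obtain ⟨φ, rfl⟩ := Spec.map_surjective v
  have h1 : Flat (Spec.map φ) := by
    rw [Flat.SpecMap_iff]
    let _ : Algebra Ω' Ω := φ.hom.toAlgebra
    exact (inferInstance : Module.Flat Ω' Ω)
  have h2 : Surjective (Spec.map φ) := by
    constructor
    intro x
    exact ⟨(IsLocalRing.closedPoint Ω : PrimeSpectrum Ω), Subsingleton.elim (α := PrimeSpectrum Ω') _ _⟩
  exact Flat.epi_of_flat_of_surjective _

variable {B F : Type u} [CommRing B] [IsDomain B] [IsLocalRing B] [Field F]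
  [Algebra B F] [IsFractionRing B F] {G : Scheme.{u}} (g : G ⟶ Spec (CommRingCat.of B))
  (ξ : Spec (CommRingCat.of F) ⟶ G) (hξ : ξ ≫ g = Spec.map (CommRingCat.ofHom (algebraMap B F)))

include hξ in
/-- Limits along discrete valuation rings. -/
theorem exists_dvr [IsNoetherianRing B] [LocallyOfFiniteType g] (hB : ¬ IsField B) (y : G)
    (hy : ξ (IsLocalRing.closedPoint F) ⤳ y) (hy' : g y = IsLocalRing.closedPoint B) :
    ∃ (D : Type u) (_ : CommRing D) (_ : IsDomain D) (_ : IsDiscreteValuationRing D)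
      (_ : Algebra D F) (_ : IsFractionRing D F) (d : Spec (CommRingCat.of D) ⟶ G),
      d (IsLocalRing.closedPoint D) = y ∧ Spec.map (CommRingCat.ofHom (algebraMap D F)) ≫ d = ξ := by
  have hln : IsLocallyNoetherian G := LocallyOfFiniteType.isLocallyNoetherian g
  set y' := ξ (IsLocalRing.closedPoint F) with hy0
  have hbot : g y' = (⊥ : PrimeSpectrum B) := by
    rw [hy0, ← Scheme.Hom.comp_apply, hξ]
    apply PrimeSpectrum.ext
    have hz : (IsLocalRing.closedPoint F : PrimeSpectrum F).asIdeal = ⊥ :=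
      (Ideal.eq_bot_or_top _).resolve_right (IsLocalRing.closedPoint F : PrimeSpectrum F).2.ne_top
    change Ideal.comap (algebraMap B F) (IsLocalRing.closedPoint F : PrimeSpectrum F).asIdeal = ⊥
    rw [hz]
    exact (RingHom.injective_iff_ker_eq_bot _).mp (IsFractionRing.injective B F)
  have hne : y' ≠ y := by
    intro h
    rw [h, hy'] at hbot
    apply hB
    rw [IsLocalRing.isField_iff_maximalIdeal_eq]
    exact congrArg PrimeSpectrum.asIdeal hbot
  have h1 := Scheme.descResidueField_stalkClosedPointTo_fromSpecResidueField F _ ξ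
  set φ := Scheme.descResidueField (Scheme.stalkClosedPointTo ξ) with hφ
  have hsurj : Function.Surjective φ.hom := by
    obtain ⟨ψ, hψ⟩ := Spec.map_surjective (G.fromSpecResidueField y' ≫ g)
    have h2 : ψ ≫ φ = CommRingCat.ofHom (algebraMap B F) := by
      apply Spec.map_injective
      rw [Spec.map_comp, hψ, ← Category.assoc]
      rw [← hξ]
      congr 1
    intro c
    obtain ⟨a, b, hb, rfl⟩ := IsFractionRing.div_surjective (A := B) c
    have h3 : ∀ a : B, φ.hom (ψ.hom a) = algebraMap B F a := fun a => ConcreteCategory.congr_hom h2 a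
    exact ⟨ψ.hom a / ψ.hom b, by rw [map_div₀, h3, h3]⟩
  obtain ⟨D, i1, i2, i3, i4, i5, d, hd1, hd2⟩ := Groth.Agent.Ega43.DvrScheme.exists_dvr_of_specializes hy hne F φ
    (RingHom.FiniteType.essFiniteType (RingHom.FiniteType.of_surjective _ hsurj))
  exact ⟨D, i1, i2, i3, i4, i5, d, hd1, hd2.trans h1⟩

include hξ in
theorem core [IsNoetherianRing B] [IsIntegrallyClosed B] [IsProper g]
    (H : ∀ (D₁ : Type u) [CommRing D₁] [IsDomain D₁] [IsDiscreteValuationRing D₁] [Algebra D₁ F] [IsFractionRing D₁ F]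
      (D₂ : Type u) [CommRing D₂] [IsDomain D₂] [IsDiscreteValuationRing D₂] [Algebra D₂ F] [IsFractionRing D₂ F]
      (d₁ : Spec (CommRingCat.of D₁) ⟶ G) (_ : Spec.map (CommRingCat.ofHom (algebraMap D₁ F)) ≫ d₁ = ξ)
      (d₂ : Spec (CommRingCat.of D₂) ⟶ G) (_ : Spec.map (CommRingCat.ofHom (algebraMap D₂ F)) ≫ d₂ = ξ)
      (Ω : Type u) [Field Ω] [IsAlgClosed Ω] (w₁ : Spec (CommRingCat.of Ω) ⟶ Spec (CommRingCat.of D₁))
      (w₂ : Spec (CommRingCat.of Ω) ⟶ Spec (CommRingCat.of D₂)) (_ : w₁ ≫ d₁ ≫ g = w₂ ≫ d₂ ≫ g)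
      (_ : (w₁ ≫ d₁ ≫ g) (IsLocalRing.closedPoint Ω) = IsLocalRing.closedPoint B), w₁ ≫ d₁ = w₂ ≫ d₂) :
    ∃ a : Spec (CommRingCat.of B) ⟶ G, a ≫ g = 𝟙 _ ∧ Spec.map (CommRingCat.ofHom (algebraMap B F)) ≫ a = ξ := by
  by_cases hB : IsField B
  · have hbij : Function.Bijective (algebraMap B F) := by
      refine ⟨IsFractionRing.injective B F, fun c => ?_⟩
      obtain ⟨a, b, hb, rfl⟩ := IsFractionRing.div_surjective (A := B) c
      obtain ⟨b', hb'⟩ := hB.mul_inv_cancel (nonZeroDivisors.ne_zero hb)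
      refine ⟨a * b', ?_⟩
      have h1 : algebraMap B F b ≠ 0 := by
        rw [Ne, map_eq_zero_iff _ (IsFractionRing.injective B F)]
        exact nonZeroDivisors.ne_zero hb
      rw [eq_div_iff h1, ← map_mul, mul_assoc, mul_comm b' b, hb', _root_.mul_one]
    have : IsIso (CommRingCat.ofHom (algebraMap B F)) :=
      (RingEquiv.ofBijective (algebraMap B F) hbij).toCommRingCatIso.isIso_hom
    refine ⟨inv (Spec.map (CommRingCat.ofHom (algebraMap B F))) ≫ ξ, ?_, ?_⟩
    · rw [Category.assoc, hξ, IsIso.inv_hom_id]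
    · rw [IsIso.hom_inv_id_assoc]
  -- the closure of the generic section
  have hqc : QuasiCompact ξ := by
    have : QuasiCompact (ξ ≫ g) := by rw [hξ]; infer_instance
    exact QuasiCompact.of_comp ξ g
  let ι := ξ.imageι
  let ξ' := ξ.toImage
  have hξ' : ξ' ≫ ι = ξ := ξ.toImage_imageι
  let p := ι ≫ g
  have hp : IsProper p := inferInstance
  have hpξ : ξ' ≫ p = Spec.map (CommRingCat.ofHom (algebraMap B F)) := by
    change ξ' ≫ ι ≫ g = _
    rw [← Category.assoc, hξ', hξ]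
  have hgen : ∀ y, ξ' (IsLocalRing.closedPoint F) ⤳ y := by
    intro y
    have h1 : DenseRange ξ' := ξ'.denseRange
    have h2 : Set.range ξ' = {ξ' (IsLocalRing.closedPoint F)} := by
      ext z
      constructor
      · rintro ⟨w, rfl⟩
        rw [Set.mem_singleton_iff, Subsingleton.elim (α := PrimeSpectrum F) w (IsLocalRing.closedPoint F)]
      · rintro rfl
        exact ⟨_, rfl⟩
    rw [specializes_iff_mem_closure, ← h2, h1.closure_range]
    trivial
  let κ := IsLocalRing.ResidueField B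
  let Ω₀ := AlgebraicClosure κ
  let f : Spec (CommRingCat.of Ω₀) ⟶ Spec (CommRingCat.of B) :=
    Spec.map (CommRingCat.ofHom ((algebraMap κ Ω₀).comp (IsLocalRing.residue B)))
  have hf : f (IsLocalRing.closedPoint Ω₀) = IsLocalRing.closedPoint B := by
    have : IsLocalHom ((algebraMap κ Ω₀).comp (IsLocalRing.residue B)) := inferInstance
    exact IsLocalRing.comap_closedPoint ((algebraMap κ Ω₀).comp (IsLocalRing.residue B))
  have hpt : ∀ {Ω : Type u} [Field Ω] {Y : Scheme.{u}} (z : Spec (CommRingCat.of Ω) ⟶ Y)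
      (t : Spec (CommRingCat.of Ω)), t = IsLocalRing.closedPoint Ω := fun z t =>
    Subsingleton.elim (α := PrimeSpectrum _) _ _
  have hsub : Subsingleton {z : Spec (CommRingCat.of Ω₀) ⟶ ξ.image // z ≫ p = f} := by
    refine ⟨fun z₁ z₂ => Subtype.ext ?_⟩
    have key : ∀ z : {z : Spec (CommRingCat.of Ω₀) ⟶ ξ.image // z ≫ p = f},
        ∃ (D : Type u) (_ : CommRing D) (_ : IsDomain D) (_ : IsDiscreteValuationRing D)
        (_ : Algebra D F) (_ : IsFractionRing D F) (d : Spec (CommRingCat.of D) ⟶ ξ.image)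
        (Ω : Type u) (_ : Field Ω) (v : Spec (CommRingCat.of Ω) ⟶ Spec (CommRingCat.of Ω₀))
        (w : Spec (CommRingCat.of Ω) ⟶ Spec (CommRingCat.of D)),
        Spec.map (CommRingCat.ofHom (algebraMap D F)) ≫ d = ξ' ∧ v ≫ z.1 = w ≫ d := by
      intro z
      obtain ⟨D, i1, i2, i3, i4, i5, d, hd1, hd2⟩ := exists_dvr p ξ' hpξ hB (z.1 (IsLocalRing.closedPoint Ω₀))
        (hgen _) (by rw [← Scheme.Hom.comp_apply, z.2, hf])
      obtain ⟨Ω, _, v, w, h1, -, -⟩ := exists_field z.1 d _ _ hd1.symm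
      exact ⟨D, i1, i2, i3, i4, i5, d, Ω, inferInstance, v, w, hd2, h1⟩
    obtain ⟨D₁, i1, i2, i3, i4, i5, d₁, Ω₁, i6, v₁, w₁, hd₁, h₁⟩ := key z₁
    obtain ⟨D₂, j1, j2, j3, j4, j5, d₂, Ω₂, j6, v₂, w₂, hd₂, h₂⟩ := key z₂
    obtain ⟨Ω', _, a', b', hab', -, -⟩ := exists_field v₁ v₂ (IsLocalRing.closedPoint Ω₁) (IsLocalRing.closedPoint Ω₂)
      (Subsingleton.elim (α := PrimeSpectrum Ω₀) _ _)
    obtain ⟨Ω, _, _, a, b, hab⟩ : ∃ (Ω : Type u) (_ : Field Ω) (_ : IsAlgClosed Ω)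
        (a : Spec (CommRingCat.of Ω) ⟶ Spec (CommRingCat.of Ω₁)) (b : Spec (CommRingCat.of Ω) ⟶ Spec (CommRingCat.of Ω₂)),
        a ≫ v₁ = b ≫ v₂ :=
      ⟨AlgebraicClosure Ω', inferInstance, inferInstance,
        Spec.map (CommRingCat.ofHom (algebraMap Ω' (AlgebraicClosure Ω'))) ≫ a',
        Spec.map (CommRingCat.ofHom (algebraMap Ω' (AlgebraicClosure Ω'))) ≫ b', by
          rw [Category.assoc, Category.assoc, hab']⟩
    have e1 : (a ≫ w₁) ≫ (d₁ ≫ ι) ≫ g = (a ≫ v₁) ≫ f := by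
      rw [← z₁.2]
      change (a ≫ w₁) ≫ (d₁ ≫ ι) ≫ g = (a ≫ v₁) ≫ z₁.1 ≫ ι ≫ g
      simp only [Category.assoc]
      rw [← reassoc_of% h₁]
    have e2 : (b ≫ w₂) ≫ (d₂ ≫ ι) ≫ g = (b ≫ v₂) ≫ f := by
      rw [← z₂.2]
      change (b ≫ w₂) ≫ (d₂ ≫ ι) ≫ g = (b ≫ v₂) ≫ z₂.1 ≫ ι ≫ g
      simp only [Category.assoc]
      rw [← reassoc_of% h₂]
    have h3 := H D₁ D₂ (d₁ ≫ ι) (by rw [← Category.assoc, hd₁, hξ']) (d₂ ≫ ι) (by rw [← Category.assoc, hd₂, hξ'])
      Ω (a ≫ w₁) (b ≫ w₂) (by rw [e1, e2, hab]) (by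
        rw [e1, Scheme.Hom.comp_apply, ← hf]
        congr 1
        exact Subsingleton.elim (α := PrimeSpectrum Ω₀) _ _)
    have h4 : (a ≫ v₁) ≫ z₁.1 ≫ ι = (a ≫ v₁) ≫ z₂.1 ≫ ι := by
      have e3 : (a ≫ v₁) ≫ z₁.1 ≫ ι = (a ≫ w₁) ≫ d₁ ≫ ι := by
        simp only [Category.assoc]
        rw [reassoc_of% h₁]
      have e4 : (a ≫ v₁) ≫ z₂.1 ≫ ι = (b ≫ w₂) ≫ d₂ ≫ ι := by
        rw [hab]
        simp only [Category.assoc]
        rw [reassoc_of% h₂]
      rw [e3, e4, h3]
    have := epi_spec_field (a ≫ v₁)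
    rw [cancel_epi, cancel_mono] at h4
    exact h4
  have hfin : Finite {z : Spec (CommRingCat.of Ω₀) ⟶ ξ.image // z ≫ p = f} := inferInstance
  have hfinite : IsFinite p := K188.FinPts.isFinite_of_geomPts p Ω₀ f hf hfin
  obtain ⟨a, ha1, ha2⟩ := K451.FinPts.exists_section p ξ' hpξ
  refine ⟨a ≫ ι, ?_, ?_⟩
  · rw [Category.assoc]
    exact ha1
  · rw [← Category.assoc, ha2, hξ']

end K615.GraphCore
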