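import Groth.Agent.AbSch.K615.GraphCore
import Groth.Agent.AbSch.K630.Dvr
import Groth.Agent.AbSch.K452.JointEpi

/-!
# Morphisms to abelian schemes over normal bases

`S`-schemes `X` (smooth), `A` (proper group scheme).
* `flat_ext`: morphisms from a scheme flat over `Spec D` which agree over `Spec F` are equal (`D ⊆ F`);
* `exists_neron`: the Néron property along `Spec D ⟶ S`, `D` a discrete valuation ring.
-/

set_option autoImplicit false
universe u
open CategoryTheory CategoryTheory.Limits MonoidalCategory CartesianMonoidalCategory MonObj AlgebraicGeometry Opposite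

noncomputable section

namespace K615.GraphExt

open K630.AbExt Groth.Agent.Models.WeilPts

variable {S : Scheme.{u}}

/-- Morphisms from a scheme flat over `Spec D` which agree over `Spec F` are equal. -/
theorem flat_ext {D F : Type u} [CommRing D] [CommRing F] (φ : D →+* F) (hφ : Function.Injective φ) {Y Z : Over S}
    (p : Y.left ⟶ Spec (CommRingCat.of D)) [Flat p] [IsSeparated Z.hom] (a b : Y ⟶ Z)
    (h : ∀ (W : Over S) (k : W ⟶ Y) (q : W.left ⟶ Spec (CommRingCat.of F)),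
      q ≫ Spec.map (CommRingCat.ofHom φ) = k.left ≫ p → k ≫ a = k ≫ b) : a = b := by
  have : Fact (Function.Injective φ) := ⟨hφ⟩
  have hdom : IsSchemeTheoreticallyDominant (Spec.map (CommRingCat.ofHom φ)) := inferInstance
  apply Over.OverMorphism.ext
  refine ext_of_schDominant Z.hom (by rw [Over.w, Over.w]) (pullback.fst p (Spec.map (CommRingCat.ofHom φ))) ?_
  let W : Over S := Over.mk (pullback.fst p (Spec.map (CommRingCat.ofHom φ)) ≫ Y.hom)
  let k : W ⟶ Y := Over.homMk (pullback.fst p (Spec.map (CommRingCat.ofHom φ))) rfl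
  exact congrArg (fun t => t.left) (h W k (pullback.snd p (Spec.map (CommRingCat.ofHom φ))) pullback.condition.symm)

theorem neron_aux {D : Type u} (F : Type u) [CommRing D] [IsDomain D] [IsDiscreteValuationRing D] [Field F]
    [Algebra D F] [IsFractionRing D F] {A : Over (Spec (CommRingCat.of D))} [GrpObj A] [IsProper A.hom]
    {X : Scheme.{u}} (pX : X ⟶ Spec (CommRingCat.of D)) [Smooth pX]
    (f : pullback pX (Spec.map (CommRingCat.ofHom (algebraMap D F))) ⟶ A.left)
    (hf : f ≫ A.hom = pullback.fst pX _ ≫ pX) :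
    ∃ u : X ⟶ A.left, u ≫ A.hom = pX ∧ pullback.fst pX _ ≫ u = f := by
  have h0 : GrpObj (Over.mk A.hom) := inferInstanceAs (GrpObj A)
  obtain ⟨u, hu, -⟩ := Groth.Agent.Models.WeilChart.existsUnique_extension A.hom pX F f hf
  exact ⟨u, hu⟩

/-- The Néron property along a morphism from the spectrum of a discrete valuation ring. -/
theorem exists_neron {D F : Type u} [CommRing D] [IsDomain D] [IsDiscreteValuationRing D] [Field F] [Algebra D F]
    [IsFractionRing D F] {X A V V' : Over S} [Smooth X.hom] [GrpObj A] [IsProper A.hom]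
    (eV : V.left ≅ Spec (CommRingCat.of D)) (eV' : V'.left ≅ Spec (CommRingCat.of F)) (j : V' ⟶ V)
    (hj : j.left ≫ eV.hom = eV'.hom ≫ Spec.map (CommRingCat.ofHom (algebraMap D F))) (a : X ⊗ V' ⟶ A) :
    ∃ a' : X ⊗ V ⟶ A, (X ◁ j) ≫ a' = a := by
  let t : Spec (CommRingCat.of D) ⟶ S := eV.inv ≫ V.hom
  let pX : (X ⊗ V).left ⟶ Spec (CommRingCat.of D) := (snd X V).left ≫ eV.hom
  have hsnd : Smooth (snd X V).left := inferInstanceAs (Smooth (pullback.snd X.hom V.hom))
  have hpX : Smooth pX := inferInstance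
  have hpA : IsProper (Red.bc t A).hom := inferInstanceAs (IsProper (pullback.snd A.hom t))
  -- the comparison `pullback pX (Spec F → Spec D) ≅ X ⊗ V'`
  let g := Spec.map (CommRingCat.ofHom (algebraMap D F))
  let W : Over S := Over.mk (pullback.fst pX g ≫ (X ⊗ V).hom)
  let k : W ⟶ X ⊗ V := Over.homMk (pullback.fst pX g) rfl
  let v' : W ⟶ V' := Over.homMk (pullback.snd pX g ≫ eV'.inv) (by
    have h1 : V'.hom = j.left ≫ V.hom := (Over.w j).symm
    have h2 : eV'.inv ≫ j.left = g ≫ eV.inv := by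
      rw [Iso.inv_comp_eq, ← Category.assoc, Iso.eq_comp_inv]
      exact hj
    rw [h1, Category.assoc, ← Category.assoc eV'.inv, h2, Category.assoc, ← Category.assoc,
      ← pullback.condition]
    change (pullback.fst pX g ≫ (snd X V).left ≫ eV.hom) ≫ eV.inv ≫ V.hom = pullback.fst pX g ≫ (X ⊗ V).hom
    rw [Category.assoc, Category.assoc, Iso.hom_inv_id_assoc, Over.w])
  have hv' : v' ≫ j = k ≫ snd X V := by
    apply Over.OverMorphism.ext
    change (pullback.snd pX g ≫ eV'.inv) ≫ j.left = pullback.fst pX g ≫ (snd X V).left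
    have h2 : eV'.inv ≫ j.left = g ≫ eV.inv := by
      rw [Iso.inv_comp_eq, ← Category.assoc, Iso.eq_comp_inv]
      exact hj
    rw [Category.assoc, h2, ← Category.assoc, ← pullback.condition]
    change (pullback.fst pX g ≫ (snd X V).left ≫ eV.hom) ≫ eV.inv = pullback.fst pX g ≫ (snd X V).left
    rw [Category.assoc, Category.assoc, Iso.hom_inv_id, Category.comp_id]
  let f₀ : W ⟶ A := lift (k ≫ fst X V) v' ≫ a
  let f : pullback pX g ⟶ (Red.bc t A).left := pullback.lift f₀.left (pullback.fst pX g ≫ pX) (by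
    rw [Over.w]
    change pullback.fst pX g ≫ (X ⊗ V).hom = (pullback.fst pX g ≫ (snd X V).left ≫ eV.hom) ≫ eV.inv ≫ V.hom
    rw [Category.assoc, Category.assoc, Iso.hom_inv_id_assoc, Over.w])
  have hf : f ≫ (Red.bc t A).hom = pullback.fst pX g ≫ pX := pullback.lift_snd _ _ _
  obtain ⟨u, hu1, hu2⟩ := neron_aux F pX f hf
  let a' : X ⊗ V ⟶ A := Over.homMk (u ≫ pullback.fst A.hom t) (by
    rw [Category.assoc, pullback.condition]
    change u ≫ (Red.bc t A).hom ≫ eV.inv ≫ V.hom = (X ⊗ V).hom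
    rw [← Category.assoc, hu1]
    change ((snd X V).left ≫ eV.hom) ≫ eV.inv ≫ V.hom = (X ⊗ V).hom
    rw [Category.assoc, Iso.hom_inv_id_assoc, Over.w])
  have ha' : k ≫ a' = f₀ := by
    apply Over.OverMorphism.ext
    change pullback.fst pX g ≫ u ≫ pullback.fst A.hom t = f₀.left
    rw [← Category.assoc, hu2]
    exact pullback.lift_fst _ _ _
  refine ⟨a', ?_⟩
  -- `X ⊗ V'` maps to `W`
  let w : X ⊗ V' ⟶ W := Over.homMk (pullback.lift (X ◁ j).left ((snd X V').left ≫ eV'.hom) (by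
    change (X ◁ j).left ≫ (snd X V).left ≫ eV.hom = _
    rw [← Category.assoc, ← Over.comp_left, whiskerLeft_snd, Over.comp_left, Category.assoc, hj, Category.assoc])) (by
    change pullback.lift _ _ _ ≫ pullback.fst pX g ≫ (X ⊗ V).hom = (X ⊗ V').hom
    rw [← Category.assoc, pullback.lift_fst, Over.w])
  have hw1 : w ≫ k = X ◁ j := by
    apply Over.OverMorphism.ext
    exact pullback.lift_fst _ _ _
  have hw2 : w ≫ v' = snd X V' := by
    apply Over.OverMorphism.ext
    change pullback.lift _ _ _ ≫ pullback.snd pX g ≫ eV'.inv = (snd X V').left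
    rw [← Category.assoc, pullback.lift_snd, Category.assoc, Iso.hom_inv_id, Category.comp_id]
  rw [← hw1, Category.assoc, ha']
  change w ≫ lift (k ≫ fst X V) v' ≫ a = a
  rw [comp_lift_assoc, hw2, ← Category.assoc w k, hw1, whiskerLeft_fst, CartesianMonoidalCategory.lift_fst_snd,
    Category.id_comp]


section Step

variable {X A K : Over S} [Smooth X.hom] [GrpObj A] [IsProper A.hom]

/-- The generic point of `Spec D` over `S`. -/
abbrev jD {S : Scheme.{u}} (D F : Type u) [CommRing D] [Field F] [Algebra D F] (t : Spec (CommRingCat.of D) ⟶ S)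
    (t' : Spec (CommRingCat.of F) ⟶ S) (ht : Spec.map (CommRingCat.ofHom (algebraMap D F)) ≫ t = t') :
    (Over.mk t' : Over S) ⟶ Over.mk t := Over.homMk (Spec.map (CommRingCat.ofHom (algebraMap D F))) ht

theorem step {D F : Type u} [CommRing D] [IsDomain D] [IsDiscreteValuationRing D] [Field F] [Algebra D F]
    [IsFractionRing D F] (t : Spec (CommRingCat.of D) ⟶ S) (t' : Spec (CommRingCat.of F) ⟶ S)
    (ht : Spec.map (CommRingCat.ofHom (algebraMap D F)) ≫ t = t') (e : Over.mk t' ⟶ K) (a : X ⊗ K ⟶ A) :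
    ∃ a' : X ⊗ Over.mk t ⟶ A, (∀ (Z : Over S) (z : Z ⟶ X) (b : Z ⟶ A), Flat Z.hom →
        fst Z K ≫ b = (z ▷ K) ≫ a → (z ▷ Over.mk t) ≫ a' = fst Z _ ≫ b) ∧
      (∀ (x : Over.mk t ⟶ X) (c : Over.mk t ⟶ A), jD D F t t' ht ≫ c = lift (jD D F t t' ht ≫ x) e ≫ a →
        lift x (𝟙 _) ≫ a' = c) := by
  obtain ⟨a', ha'⟩ := exists_neron (D := D) (F := F) (V := Over.mk t) (V' := Over.mk t') (Iso.refl _) (Iso.refl _)
    (jD D F t t' ht) (by
      change Spec.map _ ≫ 𝟙 _ = 𝟙 _ ≫ Spec.map _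
      rw [Category.comp_id, Category.id_comp]) ((X ◁ e) ≫ a)
  have hinj : Function.Injective (algebraMap D F) := IsFractionRing.injective D F
  have hsep : IsSeparated A.hom := inferInstance
  refine ⟨a', fun Z z b hZ hb => ?_, fun x c hc => ?_⟩
  · have hfl : Flat (snd Z (Over.mk t)).left := inferInstanceAs (Flat (pullback.snd Z.hom t))
    refine flat_ext (algebraMap D F) hinj (Y := Z ⊗ Over.mk t) (snd Z (Over.mk t)).left _ _ (fun W k q hq => ?_)
    let w : W ⟶ Over.mk t' := Over.homMk q (by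
      change q ≫ t' = W.hom
      rw [← ht, ← Category.assoc, hq, Category.assoc]
      have h1 : (snd Z (Over.mk t)).left ≫ t = (Z ⊗ Over.mk t).hom := Over.w (snd Z (Over.mk t))
      rw [h1, Over.w])
    have hw : w ≫ jD D F t t' ht = k ≫ snd Z (Over.mk t) := Over.OverMorphism.ext hq
    have hk : k = lift (k ≫ fst Z _) w ≫ (Z ◁ jD D F t t' ht) := by
      apply CartesianMonoidalCategory.hom_ext
      · rw [Category.assoc, whiskerLeft_fst, lift_fst]
      · rw [Category.assoc, whiskerLeft_snd, lift_snd_assoc, hw]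
    have h2 : (Z ◁ jD D F t t' ht) ≫ (z ▷ Over.mk t) ≫ a' = (Z ◁ e) ≫ fst Z K ≫ b := by
      rw [whisker_exchange_assoc, ha', ← whisker_exchange_assoc, hb]
    rw [hk, Category.assoc, h2, Category.assoc, whiskerLeft_fst_assoc, whiskerLeft_fst_assoc]
  · refine flat_ext (algebraMap D F) hinj (Y := Over.mk t) (𝟙 _) _ _ (fun W k q hq => ?_)
    rw [Category.comp_id] at hq
    let w : W ⟶ Over.mk t' := Over.homMk q (by
      change q ≫ t' = W.hom
      rw [← ht, ← Category.assoc, hq]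
      exact Over.w k)
    have hw : w ≫ jD D F t t' ht = k := Over.OverMorphism.ext hq
    have h3 : lift (jD D F t t' ht ≫ x) (jD D F t t' ht) = lift (jD D F t t' ht ≫ x) (𝟙 _) ≫ (X ◁ jD D F t t' ht) := by
      rw [lift_whiskerLeft, Category.id_comp]
    rw [← hw, Category.assoc, Category.assoc, hc, comp_lift_assoc, Category.comp_id, h3, Category.assoc, ha',
      lift_whiskerLeft_assoc, Category.id_comp]

end Step

section CoreOver

variable {X A K : Over S} [Smooth X.hom] [GrpObj A] [IsProper A.hom]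

theorem core_over {B F : Type u} [CommRing B] [IsDomain B] [IsLocalRing B] [IsNoetherianRing B] [IsIntegrallyClosed B]
    [Field F] [Algebra B F] [IsFractionRing B F] (s : Spec (CommRingCat.of B) ⟶ S) (s' : Spec (CommRingCat.of F) ⟶ S)
    (hs : Spec.map (CommRingCat.ofHom (algebraMap B F)) ≫ s = s') (x : Over.mk s ⟶ X)
    (e : Over.mk s' ⟶ K) (a : X ⊗ K ⟶ A) {I : Type*} (Z : I → Over S) (z : ∀ j, Z j ⟶ X) (b : ∀ j, Z j ⟶ A)
    (hZ : ∀ j, Flat (Z j).hom) (hb : ∀ j, fst (Z j) K ≫ b j = (z j ▷ K) ≫ a)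
    (hd : ∀ (Ω : Type u) [Field Ω] [IsAlgClosed Ω] (t : Spec (CommRingCat.of Ω) ⟶ S)
      (_ : t (IsLocalRing.closedPoint Ω) = s (IsLocalRing.closedPoint B))
      (c d : X ⊗ Over.mk t ⟶ A), (∀ j, (z j ▷ Over.mk t) ≫ c = (z j ▷ Over.mk t) ≫ d) → c = d) :
    ∃ α : Over.mk s ⟶ A, jD B F s s' hs ≫ α = lift (jD B F s s' hs ≫ x) e ≫ a := by
  have hprop : IsProper (pullback.snd A.hom s) := inferInstance
  have hw : (lift (jD B F s s' hs ≫ x) e ≫ a).left ≫ A.hom = s' := Over.w (lift (jD B F s s' hs ≫ x) e ≫ a)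
  obtain ⟨ξ, hξ1, hξ2⟩ : ∃ ξ : Spec (CommRingCat.of F) ⟶ pullback A.hom s,
      ξ ≫ pullback.fst A.hom s = (lift (jD B F s s' hs ≫ x) e ≫ a).left ∧
      ξ ≫ pullback.snd A.hom s = Spec.map (CommRingCat.ofHom (algebraMap B F)) :=
    ⟨pullback.lift _ _ (by rw [hw, hs]), pullback.lift_fst _ _ _, pullback.lift_snd _ _ _⟩
  obtain ⟨α₀, hα1, hα2⟩ := GraphCore.core (pullback.snd A.hom s) ξ hξ2 (by
    intro D₁ _ _ _ _ _ D₂ _ _ _ _ _ d₁ hd₁ d₂ hd₂ Ω _ _ w₁ w₂ hw hcl
    have ht : ∀ {D : Type u} [CommRing D] [Algebra D F] (d : Spec (CommRingCat.of D) ⟶ pullback A.hom s)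
        (_ : Spec.map (CommRingCat.ofHom (algebraMap D F)) ≫ d = ξ),
        Spec.map (CommRingCat.ofHom (algebraMap D F)) ≫ (d ≫ pullback.snd A.hom s ≫ s) = s' := by
      intro D _ _ d hd
      rw [← Category.assoc, hd, ← Category.assoc, hξ2, hs]
    obtain ⟨a₁, h1, h1'⟩ := step (d₁ ≫ pullback.snd A.hom s ≫ s) s' (ht d₁ hd₁) e a
    obtain ⟨a₂, h2, h2'⟩ := step (d₂ ≫ pullback.snd A.hom s ≫ s) s' (ht d₂ hd₂) e a
    have hx : ∀ {D : Type u} [CommRing D] (d : Spec (CommRingCat.of D) ⟶ pullback A.hom s),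
        (d ≫ pullback.snd A.hom s ≫ x.left) ≫ X.hom = d ≫ pullback.snd A.hom s ≫ s := by
      intro D _ d
      rw [Category.assoc, Category.assoc, Over.w x]
      rfl
    have hc : ∀ {D : Type u} [CommRing D] (d : Spec (CommRingCat.of D) ⟶ pullback A.hom s),
        (d ≫ pullback.fst A.hom s) ≫ A.hom = d ≫ pullback.snd A.hom s ≫ s := by
      intro D _ d
      rw [Category.assoc, pullback.condition]
    have hgen : ∀ {D : Type u} [CommRing D] [Algebra D F] (d : Spec (CommRingCat.of D) ⟶ pullback A.hom s)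
        (hd : Spec.map (CommRingCat.ofHom (algebraMap D F)) ≫ d = ξ),
        jD D F (d ≫ pullback.snd A.hom s ≫ s) s' (ht d hd) ≫
          (Over.homMk (d ≫ pullback.fst A.hom s) (hc d) : Over.mk (d ≫ pullback.snd A.hom s ≫ s) ⟶ A) =
        lift (jD D F (d ≫ pullback.snd A.hom s ≫ s) s' (ht d hd) ≫
          (Over.homMk (d ≫ pullback.snd A.hom s ≫ x.left) (hx d) : Over.mk (d ≫ pullback.snd A.hom s ≫ s) ⟶ X)) e ≫ a := by
      intro D _ _ d hd
      have e1 : jD D F (d ≫ pullback.snd A.hom s ≫ s) s' (ht d hd) ≫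
          (Over.homMk (d ≫ pullback.snd A.hom s ≫ x.left) (hx d) : Over.mk (d ≫ pullback.snd A.hom s ≫ s) ⟶ X) =
          jD B F s s' hs ≫ x := by
        apply Over.OverMorphism.ext
        change Spec.map (CommRingCat.ofHom (algebraMap D F)) ≫ d ≫ pullback.snd A.hom s ≫ x.left =
          Spec.map (CommRingCat.ofHom (algebraMap B F)) ≫ x.left
        rw [← Category.assoc, hd, ← Category.assoc, hξ2]
      rw [e1]
      apply Over.OverMorphism.ext
      rw [← hξ1]
      change Spec.map (CommRingCat.ofHom (algebraMap D F)) ≫ d ≫ pullback.fst A.hom s = ξ ≫ pullback.fst A.hom s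
      rw [← Category.assoc, hd]
    have hc1 := h1' _ _ (hgen d₁ hd₁)
    have hc2 := h2' _ _ (hgen d₂ hd₂)
    -- the point with values in `Ω`
    let k₁ : Over.mk (w₁ ≫ d₁ ≫ pullback.snd A.hom s ≫ s) ⟶ Over.mk (d₁ ≫ pullback.snd A.hom s ≫ s) :=
      Over.homMk w₁ rfl
    let k₂ : Over.mk (w₁ ≫ d₁ ≫ pullback.snd A.hom s ≫ s) ⟶ Over.mk (d₂ ≫ pullback.snd A.hom s ≫ s) :=
      Over.homMk w₂ (by
        change w₂ ≫ d₂ ≫ pullback.snd A.hom s ≫ s = w₁ ≫ d₁ ≫ pullback.snd A.hom s ≫ s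
        have := congrArg (· ≫ s) hw
        simpa only [Category.assoc] using this.symm)
    have hk := hd Ω (w₁ ≫ d₁ ≫ pullback.snd A.hom s ≫ s) (by
        rw [← hcl]
        simp only [Scheme.Hom.comp_apply]) ((X ◁ k₁) ≫ a₁) ((X ◁ k₂) ≫ a₂) (fun j => by
        rw [← whisker_exchange_assoc, ← whisker_exchange_assoc, h1 _ _ _ (hZ j) (hb j), h2 _ _ _ (hZ j) (hb j),
          whiskerLeft_fst_assoc, whiskerLeft_fst_assoc])
    have hxx : k₁ ≫ (Over.homMk (d₁ ≫ pullback.snd A.hom s ≫ x.left) (hx d₁) :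
        Over.mk (d₁ ≫ pullback.snd A.hom s ≫ s) ⟶ X) = k₂ ≫ (Over.homMk (d₂ ≫ pullback.snd A.hom s ≫ x.left) (hx d₂) :
        Over.mk (d₂ ≫ pullback.snd A.hom s ≫ s) ⟶ X) := by
      apply Over.OverMorphism.ext
      change w₁ ≫ d₁ ≫ pullback.snd A.hom s ≫ x.left = w₂ ≫ d₂ ≫ pullback.snd A.hom s ≫ x.left
      have := congrArg (· ≫ x.left) hw
      simpa only [Category.assoc] using this
    have hcc : k₁ ≫ (Over.homMk (d₁ ≫ pullback.fst A.hom s) (hc d₁) : Over.mk (d₁ ≫ pullback.snd A.hom s ≫ s) ⟶ A) =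
        k₂ ≫ (Over.homMk (d₂ ≫ pullback.fst A.hom s) (hc d₂) : Over.mk (d₂ ≫ pullback.snd A.hom s ≫ s) ⟶ A) := by
      rw [← hc1, ← hc2, comp_lift_assoc, comp_lift_assoc, Category.comp_id, Category.comp_id, hxx]
      have e1 : ∀ (y : Over.mk (w₁ ≫ d₁ ≫ pullback.snd A.hom s ≫ s) ⟶ X), lift y k₁ ≫ a₁ = lift y (𝟙 _) ≫ (X ◁ k₁) ≫ a₁ := by
        intro y
        rw [lift_whiskerLeft_assoc, Category.id_comp]
      have e2 : ∀ (y : Over.mk (w₁ ≫ d₁ ≫ pullback.snd A.hom s ≫ s) ⟶ X), lift y k₂ ≫ a₂ = lift y (𝟙 _) ≫ (X ◁ k₂) ≫ a₂ := by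
        intro y
        rw [lift_whiskerLeft_assoc, Category.id_comp]
      rw [e1, e2, hk]
    apply pullback.hom_ext
    · have := congrArg (fun t => t.left) hcc
      change w₁ ≫ d₁ ≫ pullback.fst A.hom s = w₂ ≫ d₂ ≫ pullback.fst A.hom s at this
      simpa only [Category.assoc] using this
    · simpa only [Category.assoc] using hw)
  refine ⟨Over.homMk (α₀ ≫ pullback.fst A.hom s) ?_, ?_⟩
  · rw [Category.assoc, pullback.condition, ← Category.assoc, hα1]
    exact Category.id_comp s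
  · apply Over.OverMorphism.ext
    rw [← hξ1, ← hα2]
    exact (Category.assoc _ _ _).symm

end CoreOver


section At

variable {R : Type u} [CommRing R] [IsDomain R] {X A : Over (Spec (CommRingCat.of R))}

theorem mono_gen : Mono (Spec.map (CommRingCat.ofHom (algebraMap R (FractionRing R)))) := by
  have h : Epi (CommRingCat.ofHom (algebraMap R (FractionRing R))) :=
    IsLocalization.epi (nonZeroDivisors R) (FractionRing R)
  exact inferInstanceAs (Mono (Scheme.Spec.map (CommRingCat.ofHom (algebraMap R (FractionRing R))).op))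

theorem hom_gen_ext {W : Over (Spec (CommRingCat.of R))} (e e' : W ⟶ gen R) : e = e' := by
  have := mono_gen (R := R)
  apply Over.OverMorphism.ext
  have h1 : e.left ≫ (gen R).hom = e'.left ≫ (gen R).hom := by rw [Over.w, Over.w]
  have h2 : Mono (gen R).hom := this
  rwa [cancel_mono] at h1

variable [Smooth X.hom] [GrpObj A] [IsProper A.hom]

omit [IsDomain R] [Smooth X.hom] in
theorem injective_of_flat [IsDomain R] {B : Type u} [CommRing B] [Nontrivial B] (ρ : R →+* B)
    (h : Flat (Spec.map (CommRingCat.ofHom ρ))) : Function.Injective ρ := by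
  rw [Flat.SpecMap_iff] at h
  rw [injective_iff_map_eq_zero]
  intro r hr
  by_contra hne
  let _ : Algebra R B := ρ.toAlgebra
  have h2 : Module.Flat R B := h
  have h3 : IsSMulRegular R r := fun a b hab => mul_left_cancel₀ hne hab
  have h4 : IsSMulRegular B r := h3.of_flat
  have h5 : r • (1 : B) = r • 0 := by
    rw [smul_zero, Algebra.smul_def, _root_.mul_one]
    exact hr
  exact one_ne_zero (h4 h5)

/-- The extension over the spectrum of a normal local ring flat over `X`. -/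
theorem exists_stalk (a : X ⊗ gen R ⟶ A) {B F : Type u} [CommRing B] [IsDomain B] [IsLocalRing B]
    [IsNoetherianRing B] [IsIntegrallyClosed B] [Field F] [Algebra B F] [IsFractionRing B F]
    (σ : Spec (CommRingCat.of B) ⟶ X.left) [Flat σ]
    {I : Type*} (Z : I → Over (Spec (CommRingCat.of R))) (z : ∀ j, Z j ⟶ X) (b : ∀ j, Z j ⟶ A)
    (hZ : ∀ j, Flat (Z j).hom) (hb : ∀ j, fst (Z j) (gen R) ≫ b j = (z j ▷ gen R) ≫ a)
    (hd : ∀ (Ω : Type u) [Field Ω] [IsAlgClosed Ω] (t : Spec (CommRingCat.of Ω) ⟶ Spec (CommRingCat.of R))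
      (_ : t (IsLocalRing.closedPoint Ω) = X.hom (σ (IsLocalRing.closedPoint B)))
      (c d : X ⊗ Over.mk t ⟶ A), (∀ j, (z j ▷ Over.mk t) ≫ c = (z j ▷ Over.mk t) ≫ d) → c = d) :
    ∃ (α : Spec (CommRingCat.of B) ⟶ A.left), α ≫ A.hom = σ ≫ X.hom ∧
      ∀ (W : Over (Spec (CommRingCat.of R))) (y : W ⟶ X ⊗ gen R) (q : W.left ⟶ Spec (CommRingCat.of F)),
        q ≫ Spec.map (CommRingCat.ofHom (algebraMap B F)) ≫ σ = (y ≫ fst X (gen R)).left →
        (y ≫ a).left = q ≫ Spec.map (CommRingCat.ofHom (algebraMap B F)) ≫ α := by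
  obtain ⟨ρ, hρ⟩ : ∃ ρ : R →+* B, Spec.map (CommRingCat.ofHom ρ) = σ ≫ X.hom := by
    obtain ⟨ρ, hρ⟩ := Spec.map_surjective (σ ≫ X.hom)
    exact ⟨ρ.hom, hρ⟩
  have hinj : Function.Injective ρ := injective_of_flat ρ (by
    rw [hρ]
    infer_instance)
  have hgF : Function.Injective ((algebraMap B F).comp ρ) := (IsFractionRing.injective B F).comp hinj
  have hs' : Spec.map (CommRingCat.ofHom (algebraMap B F)) ≫ σ ≫ X.hom =
      Spec.map (CommRingCat.ofHom ((algebraMap B F).comp ρ)) := by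
    rw [← hρ, ← Spec.map_comp]
    rfl
  let e : (Over.mk (Spec.map (CommRingCat.ofHom ((algebraMap B F).comp ρ))) : Over (Spec (CommRingCat.of R))) ⟶ gen R :=
    Over.homMk (Spec.map (CommRingCat.ofHom (IsFractionRing.lift (K := FractionRing R) hgF))) (by
      change Spec.map _ ≫ Spec.map _ = Spec.map _
      rw [← Spec.map_comp, ← CommRingCat.ofHom_comp]
      congr 2
      ext r
      exact IsFractionRing.lift_algebraMap hgF r)
  obtain ⟨α, hα⟩ := core_over (K := gen R) (X := X) (A := A) (σ ≫ X.hom) _ hs' (Over.homMk σ rfl) e a Z z b hZ hb (by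
    intro Ω _ _ t ht c d h
    refine hd Ω t ?_ c d h
    rw [ht, Scheme.Hom.comp_apply])
  refine ⟨α.left, Over.w α, fun W y q hq => ?_⟩
  let w : W ⟶ Over.mk (Spec.map (CommRingCat.ofHom ((algebraMap B F).comp ρ))) := Over.homMk q (by
    change q ≫ Spec.map _ = W.hom
    rw [← hs', ← Over.w (y ≫ fst X (gen R)), ← hq]
    simp only [Category.assoc])
  have h1 : y = w ≫ lift (jD B F (σ ≫ X.hom) _ hs' ≫ Over.homMk σ rfl) e := by
    apply CartesianMonoidalCategory.hom_ext
    · rw [Category.assoc, lift_fst]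
      apply Over.OverMorphism.ext
      rw [← hq]
      rfl
    · exact hom_gen_ext _ _
  rw [h1, Category.assoc, ← hα]
  rfl

end At

end K615.GraphExt
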