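import Groth.Agent.AbSch.K615.GraphExt

/-!
# Morphisms from smooth schemes over a normal base to abelian schemes

`exists_ext`: `R` a noetherian domain, `X` smooth over `R` and normal, `A` a proper group scheme; a morphism from the
generic fibre of `X` to `A` extends to `X` provided that near each point there is a family `Z_j ⟶ X` of flat
`R`-schemes, dense in the geometric fibres, over which the morphism extends.
-/

set_option autoImplicit false
universe u
open CategoryTheory CategoryTheory.Limits MonoidalCategory CartesianMonoidalCategory MonObj AlgebraicGeometry Opposite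

noncomputable section

namespace K615.GraphExt

open K630.AbExt Groth.Agent.Models.WeilPts

variable {R : Type u} [CommRing R] {X A : Over (Spec (CommRingCat.of R))}

instance flat_gen (R : Type u) [CommRing R] : Flat (gen R).hom := by
  change Flat (Spec.map _)
  rw [Flat.SpecMap_iff]
  exact RingHom.flat_algebraMap_iff.mpr inferInstance

theorem exists_chart [IsSeparated A.hom] [LocallyOfFiniteType A.hom] (a : X ⊗ gen R ⟶ A) (x : X.left) {F : Type u}
    [Field F] [Algebra (X.left.presheaf.stalk x) F] (hF : Function.Injective (algebraMap (X.left.presheaf.stalk x) F))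
    [X.left.IsGermInjectiveAt x] (α : Spec (X.left.presheaf.stalk x) ⟶ A.left)
    (hα : α ≫ A.hom = X.left.fromSpecStalk x ≫ X.hom)
    (hα' : ∀ (W : Over (Spec (CommRingCat.of R))) (y : W ⟶ X ⊗ gen R) (q : W.left ⟶ Spec (CommRingCat.of F)),
        q ≫ Spec.map (CommRingCat.ofHom (algebraMap (X.left.presheaf.stalk x) F)) ≫ X.left.fromSpecStalk x =
          (y ≫ fst X (gen R)).left →
        (y ≫ a).left = q ≫ Spec.map (CommRingCat.ofHom (algebraMap (X.left.presheaf.stalk x) F)) ≫ α) :
    ∃ (U : X.left.Opens) (_ : x ∈ U) (u : (U : Scheme.{u}) ⟶ A.left), u ≫ A.hom = U.ι ≫ X.hom ∧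
      pullback.fst U.ι (fst X (gen R)).left ≫ u = pullback.snd U.ι (fst X (gen R)).left ≫ a.left := by
  obtain ⟨U, hxU, f, hf1, hf2⟩ := spread_out_of_isGermInjective' X.hom A.hom α hα
  obtain ⟨U', hxU', hU', hle, hinj⟩ := X.left.exists_le_and_germ_injective x U hxU
  have haff : IsAffine (U' : Scheme.{u}) := hU'
  refine ⟨U', hxU', X.left.homOfLE hle ≫ f, ?_, ?_⟩
  · rw [Category.assoc, hf2, Scheme.homOfLE_ι_assoc]
  · let φ : Γ(X.left, U') →+* F := (algebraMap (X.left.presheaf.stalk x) F).comp (X.left.presheaf.germ U' x hxU').hom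
    have hφ : Function.Injective φ := hF.comp hinj
    let Y : Over (Spec (CommRingCat.of R)) := Over.mk (pullback.fst U'.ι (fst X (gen R)).left ≫ U'.ι ≫ X.hom)
    have hfl : Flat (fst X (gen R)).left := inferInstanceAs (Flat (pullback.fst X.hom (gen R).hom))
    have hisoA : IsIso U'.toSpecΓ := inferInstanceAs (IsIso hU'.isoSpec.hom)
    let p : Y.left ⟶ Spec (CommRingCat.of Γ(X.left, U')) := pullback.fst U'.ι (fst X (gen R)).left ≫ U'.toSpecΓ
    have hp : Flat p := by
      have : Flat (pullback.fst U'.ι (fst X (gen R)).left) := inferInstance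
      have : Flat U'.toSpecΓ := inferInstance
      exact MorphismProperty.comp_mem @Flat _ _ ‹_› ‹_›
    let u₁ : Y ⟶ A := Over.homMk (pullback.fst U'.ι (fst X (gen R)).left ≫ X.left.homOfLE hle ≫ f) (by
      rw [Category.assoc, Category.assoc, hf2, Scheme.homOfLE_ι_assoc]
      rfl)
    let y₀ : Y ⟶ X ⊗ gen R := Over.homMk (pullback.snd U'.ι (fst X (gen R)).left) (by
      rw [← Over.w (fst X (gen R)), ← Category.assoc, ← pullback.condition, Category.assoc]
      rfl)
    have key : u₁ = y₀ ≫ a := by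
      refine flat_ext φ hφ (Y := Y) p _ _ (fun W k q hq => ?_)
      have h1 : q ≫ Spec.map (CommRingCat.ofHom φ) = (q ≫ Spec.map (CommRingCat.ofHom
          (algebraMap (X.left.presheaf.stalk x) F)) ≫ U'.fromSpecStalkOfMem x hxU') ≫ U'.toSpecΓ := by
        rw [Category.assoc, Category.assoc, Scheme.Opens.fromSpecStalkOfMem_toSpecΓ]
        have h2 : Spec.map (CommRingCat.ofHom φ) = Spec.map (CommRingCat.ofHom
          (algebraMap (X.left.presheaf.stalk x) F)) ≫ Spec.map (X.left.presheaf.germ U' x hxU') := by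
          rw [← Spec.map_comp]
          rfl
        rw [h2]
      have h3 : q ≫ Spec.map (CommRingCat.ofHom (algebraMap (X.left.presheaf.stalk x) F)) ≫
          U'.fromSpecStalkOfMem x hxU' = k.left ≫ pullback.fst U'.ι (fst X (gen R)).left := by
        rw [← cancel_mono U'.toSpecΓ, ← h1, hq, Category.assoc]
      have h4 : q ≫ Spec.map (CommRingCat.ofHom (algebraMap (X.left.presheaf.stalk x) F)) ≫ X.left.fromSpecStalk x =
          ((k ≫ y₀) ≫ fst X (gen R)).left := by
        change _ = (k.left ≫ pullback.snd U'.ι (fst X (gen R)).left) ≫ (fst X (gen R)).left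
        rw [Category.assoc, ← pullback.condition]
        have h4' := congrArg (· ≫ U'.ι) h3
        simp only [Category.assoc, Scheme.Opens.fromSpecStalkOfMem_ι] at h4'
        exact h4'
      have h5 := hα' W (k ≫ y₀) q h4
      apply Over.OverMorphism.ext
      rw [← Category.assoc, h5, hf1]
      change k.left ≫ pullback.fst U'.ι (fst X (gen R)).left ≫ X.left.homOfLE hle ≫ f = _
      rw [← Category.assoc, ← h3]
      simp only [Category.assoc]
      congr 2
      rw [← Category.assoc]
      congr 1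
      rw [← cancel_mono U.ι, Category.assoc, Scheme.homOfLE_ι, Scheme.Opens.fromSpecStalkOfMem_ι,
        Scheme.Opens.fromSpecStalkOfMem_ι]
    exact congrArg (fun t => t.left) key

/-- Gluing of local extensions of a morphism from the generic fibre. -/
theorem exists_of_stalk [IsDomain R] [Flat X.hom] [IsLocallyNoetherian X.left] [IsSeparated A.hom]
    [LocallyOfFiniteType A.hom] (a : X ⊗ gen R ⟶ A)
    (H : ∀ x : X.left, ∃ (F : Type u) (_ : Field F) (_ : Algebra (X.left.presheaf.stalk x) F)
      (_ : Function.Injective (algebraMap (X.left.presheaf.stalk x) F)) (α : Spec (X.left.presheaf.stalk x) ⟶ A.left),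
      α ≫ A.hom = X.left.fromSpecStalk x ≫ X.hom ∧
      ∀ (W : Over (Spec (CommRingCat.of R))) (y : W ⟶ X ⊗ gen R) (q : W.left ⟶ Spec (CommRingCat.of F)),
        q ≫ Spec.map (CommRingCat.ofHom (algebraMap (X.left.presheaf.stalk x) F)) ≫ X.left.fromSpecStalk x =
          (y ≫ fst X (gen R)).left →
        (y ≫ a).left = q ≫ Spec.map (CommRingCat.ofHom (algebraMap (X.left.presheaf.stalk x) F)) ≫ α) :
    ∃ a' : X ⟶ A, fst X (gen R) ≫ a' = a := by
  have hchart : ∀ x : X.left, ∃ (U : X.left.Opens) (_ : x ∈ U) (u : (U : Scheme.{u}) ⟶ A.left),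
      u ≫ A.hom = U.ι ≫ X.hom ∧
      pullback.fst U.ι (fst X (gen R)).left ≫ u = pullback.snd U.ι (fst X (gen R)).left ≫ a.left := by
    intro x
    obtain ⟨F, _, _, hF, α, h1, h2⟩ := H x
    exact exists_chart a x hF α h1 h2
  choose U hxU u hu1 hu2 using hchart
  let 𝒰 : X.left.OpenCover := Scheme.Cover.mkOfCovers X.left (fun x => (U x : Scheme.{u})) (fun x => (U x).ι)
    (fun x => ⟨x, ⟨x, hxU x⟩, rfl⟩) (fun x => inferInstance)
  have hinj : Fact (Function.Injective (algebraMap R (FractionRing R))) := ⟨IsFractionRing.injective _ _⟩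
  have hd1 : IsSchemeTheoreticallyDominant (gen R).hom :=
    inferInstanceAs (IsSchemeTheoreticallyDominant (Spec.map (CommRingCat.ofHom (algebraMap R (FractionRing R)))))
  have hq1 : QuasiCompact (gen R).hom :=
    inferInstanceAs (QuasiCompact (Spec.map (CommRingCat.ofHom (algebraMap R (FractionRing R)))))
  have hd2 : IsSchemeTheoreticallyDominant (fst X (gen R)).left :=
    inferInstanceAs (IsSchemeTheoreticallyDominant (pullback.fst X.hom (gen R).hom))
  have hq2 : QuasiCompact (fst X (gen R)).left :=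
    inferInstanceAs (QuasiCompact (pullback.fst X.hom (gen R).hom))
  obtain ⟨w, hw1, hw2⟩ := Groth.Agent.Models.WeilGlue.exists_glue (fst X (gen R)).left A.hom X.hom a.left 𝒰 u hu1 hu2
  exact ⟨Over.homMk w hw1, Over.OverMorphism.ext hw2⟩

theorem exists_ext [IsDomain R] [IsNoetherianRing R] [Smooth X.hom] [GrpObj A] [IsProper A.hom]
    (hX : Pi1.IsNormalScheme X.left) (a : X ⊗ gen R ⟶ A)
    (H : ∀ x : X.left, ∃ (I : Type u) (Z : I → Over (Spec (CommRingCat.of R))) (z : ∀ j, Z j ⟶ X) (b : ∀ j, Z j ⟶ A),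
      (∀ j, Flat (Z j).hom) ∧ (∀ j, fst (Z j) (gen R) ≫ b j = (z j ▷ gen R) ≫ a) ∧
      ∀ (Ω : Type u) [Field Ω] [IsAlgClosed Ω] (t : Spec (CommRingCat.of Ω) ⟶ Spec (CommRingCat.of R))
      (_ : t (IsLocalRing.closedPoint Ω) = X.hom x)
      (c d : X ⊗ Over.mk t ⟶ A), (∀ j, (z j ▷ Over.mk t) ≫ c = (z j ▷ Over.mk t) ≫ d) → c = d) :
    ∃ a' : X ⟶ A, fst X (gen R) ≫ a' = a := by
  have hln : IsLocallyNoetherian X.left := LocallyOfFiniteType.isLocallyNoetherian X.hom
  refine exists_of_stalk a fun x => ?_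
  obtain ⟨I, Z, z, b, h1, h2, h3⟩ := H x
  obtain ⟨i1, i2⟩ := hX x
  have i3 : IsNoetherianRing (X.left.presheaf.stalk x) := inferInstance
  have hfl : Flat (X.left.fromSpecStalk x) := K452.JointEpi.flat_fromSpecStalk x
  have i4 : IsLocalRing (X.left.presheaf.stalk x) := inferInstance
  obtain ⟨α, hα1, hα2⟩ := @exists_stalk R _ _ X A _ _ _ a (X.left.presheaf.stalk x)
    (FractionRing (X.left.presheaf.stalk x)) _ i1 i4 i3 i2 _ _ _ (X.left.fromSpecStalk x) _ _ Z z b h1 h2 (by
      intro Ω _ _ t ht c d h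
      refine h3 Ω t ?_ c d h
      rw [ht]
      congr 1
      exact Scheme.fromSpecStalk_closedPoint)
  exact ⟨FractionRing (X.left.presheaf.stalk x), inferInstance, inferInstance, IsFractionRing.injective _ _, α, hα1, hα2⟩

/-- Points of the generic fibre with values in the fraction field of a local ring. -/
theorem exists_gen_pt [IsDomain R] [Flat X.hom] {B F : Type u} [CommRing B] [IsDomain B] [Field F] [Algebra B F]
    [IsFractionRing B F] (σ : Spec (CommRingCat.of B) ⟶ X.left) [Flat σ] :
    ∃ ζ : Over.mk (Spec.map (CommRingCat.ofHom (algebraMap B F)) ≫ σ ≫ X.hom) ⟶ X ⊗ gen R,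
      (ζ ≫ fst X (gen R)).left = Spec.map (CommRingCat.ofHom (algebraMap B F)) ≫ σ ∧
      ∀ (W : Over (Spec (CommRingCat.of R))) (y : W ⟶ X ⊗ gen R) (q : W.left ⟶ Spec (CommRingCat.of F)),
        q ≫ Spec.map (CommRingCat.ofHom (algebraMap B F)) ≫ σ = (y ≫ fst X (gen R)).left →
        ∃ w : W ⟶ Over.mk (Spec.map (CommRingCat.ofHom (algebraMap B F)) ≫ σ ≫ X.hom), w.left = q ∧ y = w ≫ ζ := by
  obtain ⟨ρ, hρ⟩ : ∃ ρ : R →+* B, Spec.map (CommRingCat.ofHom ρ) = σ ≫ X.hom := by
    obtain ⟨ρ, hρ⟩ := Spec.map_surjective (σ ≫ X.hom)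
    exact ⟨ρ.hom, hρ⟩
  have hinj : Function.Injective ρ := injective_of_flat ρ (by
    rw [hρ]
    infer_instance)
  have hgF : Function.Injective ((algebraMap B F).comp ρ) := (IsFractionRing.injective B F).comp hinj
  have hs' : Spec.map (CommRingCat.ofHom (algebraMap B F)) ≫ σ ≫ X.hom =
      Spec.map (CommRingCat.ofHom ((algebraMap B F).comp ρ)) := by
    rw [← hρ, ← Spec.map_comp]
    rfl
  let e : (Over.mk (Spec.map (CommRingCat.ofHom (algebraMap B F)) ≫ σ ≫ X.hom) : Over (Spec (CommRingCat.of R))) ⟶ gen R :=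
    Over.homMk (Spec.map (CommRingCat.ofHom (IsFractionRing.lift (K := FractionRing R) hgF))) (by
      change Spec.map _ ≫ Spec.map _ = Spec.map (CommRingCat.ofHom (algebraMap B F)) ≫ σ ≫ X.hom
      rw [hs', ← Spec.map_comp, ← CommRingCat.ofHom_comp]
      congr 2
      ext r
      exact IsFractionRing.lift_algebraMap hgF r)
  let xF : Over.mk (Spec.map (CommRingCat.ofHom (algebraMap B F)) ≫ σ ≫ X.hom) ⟶ X :=
    Over.homMk (Spec.map (CommRingCat.ofHom (algebraMap B F)) ≫ σ) (Category.assoc _ _ _)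
  refine ⟨lift xF e, ?_, fun W y q hq => ?_⟩
  · rw [lift_fst]
    rfl
  · let w : W ⟶ Over.mk (Spec.map (CommRingCat.ofHom (algebraMap B F)) ≫ σ ≫ X.hom) := Over.homMk q (by
      change q ≫ Spec.map _ ≫ σ ≫ X.hom = W.hom
      rw [← Over.w (y ≫ fst X (gen R)), ← hq]
      simp only [Category.assoc])
    refine ⟨w, rfl, ?_⟩
    apply CartesianMonoidalCategory.hom_ext
    · rw [Category.assoc, lift_fst]
      apply Over.OverMorphism.ext
      rw [← hq]
      rfl
    · exact hom_gen_ext _ _

/-- Generic sections of finite morphisms to normal schemes extend. -/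
theorem exists_of_finite [IsDomain R] {Y Q : Over (Spec (CommRingCat.of R))} [Flat Y.hom] [IsLocallyNoetherian Y.left]
    (hY : Pi1.IsNormalScheme Y.left) [IsSeparated Y.hom] [LocallyOfFiniteType Y.hom] (π : Q ⟶ Y) [IsFinite π.left]
    (c : Y ⊗ gen R ⟶ Q) (hc : c ≫ π = fst Y (gen R)) : ∃ c' : Y ⟶ Q, fst Y (gen R) ≫ c' = c := by
  have h1 : IsSeparated Q.hom := by
    rw [← Over.w π]
    infer_instance
  have h2 : LocallyOfFiniteType Q.hom := by
    rw [← Over.w π]
    infer_instance
  refine exists_of_stalk c fun y => ?_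
  obtain ⟨i1, i2⟩ := hY y
  have hfl : Flat (Y.left.fromSpecStalk y) := K452.JointEpi.flat_fromSpecStalk y
  obtain ⟨ζ, hζ1, hζ2⟩ := @exists_gen_pt R _ Y _ _ (Y.left.presheaf.stalk y) (FractionRing (Y.left.presheaf.stalk y)) _ i1
    _ _ _ (Y.left.fromSpecStalk y) _
  have hfin : IsFinite (pullback.snd π.left (Y.left.fromSpecStalk y)) := inferInstance
  have hw : (ζ ≫ c).left ≫ π.left = Spec.map (CommRingCat.ofHom (algebraMap (Y.left.presheaf.stalk y)
      (FractionRing (Y.left.presheaf.stalk y)))) ≫ Y.left.fromSpecStalk y := by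
    rw [← Over.comp_left, Category.assoc, hc, hζ1]
  obtain ⟨s, hs1, hs2⟩ := @K451.FinPts.exists_section (Y.left.presheaf.stalk y) (FractionRing (Y.left.presheaf.stalk y)) _
    i1 i2 _ _ _ _ (pullback.snd π.left (Y.left.fromSpecStalk y)) _ (pullback.lift _ _ hw) (pullback.lift_snd _ _ _)
  refine ⟨FractionRing (Y.left.presheaf.stalk y), inferInstance, inferInstance, IsFractionRing.injective _ _,
    s ≫ pullback.fst π.left (Y.left.fromSpecStalk y), ?_, ?_⟩
  · rw [Category.assoc, ← Over.w π, ← Category.assoc (pullback.fst _ _), pullback.condition, Category.assoc,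
      ← Category.assoc s, hs1]
    rfl
  · intro W z q hq
    obtain ⟨w, hw1, hw2⟩ := hζ2 W z q hq
    have h3 := congrArg (fun t => t ≫ pullback.fst π.left (Y.left.fromSpecStalk y)) hs2
    have h4 := ((Category.assoc _ _ _).symm.trans h3).trans (pullback.lift_fst _ _ _)
    rw [hw2, Category.assoc, Over.comp_left, hw1, h4]

end K615.GraphExt
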