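import Groth.Agent.AbSch.K615.CubeGen
import Groth.Agent.AbSch.K449.AmpAb
import Groth.Agent.S12128
import Groth.Agent.Dix.Cast5
import Groth.Agent.S1687

/-!
# Abelian schemes over normal affine bases

* `isRelAmple_of_isAffineOpen`: `S` affine Noetherian normal, `G/S` an abelian scheme with an affine open `V` containing
  the unit section: `G` has a relatively ample invertible module.
-/

set_option autoImplicit false
universe u

open CategoryTheory Limits MonoidalCategory CartesianMonoidalCategory AlgebraicGeometry TopologicalSpace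
open scoped MonObj
open Groth.Agent.Fdesc.LocGen Groth.Agent.Grpsch.PicGrp
open K615.NormCart

namespace K615.NormAmp

variable {S : Scheme.{u}} (G : Over S) [GrpObj G] [IsProper G.hom] [Smooth G.hom] [GeometricallyIntegral G.hom]

theorem exists_isRelAmple [IsAffine S] [IsLocallyNoetherian S] (hS : Pi1.IsNormalScheme S) (V : G.left.Opens)
    (hVa : IsAffineOpen V) (hV : ∀ s : S, (η : 𝟙_ (Over S) ⟶ G).left s ∈ V) :
    ∃ L : G.left.Modules, RelAmple.IsRelAmple G.hom L := by
  have hsep : G.left.IsSeparated := ⟨by
    have : IsSeparated (G.hom ≫ terminal.from _) := inferInstance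
    rwa [terminal.comp_from] at this⟩
  have hVh : IsAffineHom V.ι :=
    Groth.Agent.S1687.isAffineHom_of_inter G.left (fun _ _ h h' => h.inf h') V hVa
  have hD := K615.CubeGen.isEffCartierIdeal_J G hS V hV
  have hker : (J V).subschemeι.ker = J V := (J V).ker_subschemeι
  have hD' : BlowUp.IsEffCartierIdeal (J V).subschemeι.ker := hker.symm ▸ hD
  obtain ⟨s, hs⟩ := Groth.Agent.Dix.Cast5.exists_section (J V).subschemeι hD'
  have hloc : CohB1.genLocus _ s = V := by
    apply Opens.ext
    rw [hs, (J V).range_subschemeι, support_J, compl_compl]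
  generalize hLdef : dual (ClSub.idealMod (Scheme.Hom.ker (J V).subschemeι)) = L at s hs hloc
  have hL : PicF.IsInvertible L := by
    rw [← hLdef]
    exact isInvertible_dual (Groth.Agent.Dix.IdealModCartier.isInvertible_idealMod hD')
  refine ⟨L, (Groth.Agent.S12128.result G.hom L hL).mpr fun t => ?_⟩
  let f : Spec (CommRingCat.of (S.residueField t)) ⟶ S := S.fromSpecResidueField t
  let A := Red.bc f G
  let pr : A.left ⟶ G.left := pullback.fst G.hom f
  have h1 : IsProper A.hom := (inferInstance : IsProper (pullback.snd G.hom f))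
  have h2 : GeometricallyIntegral A.hom := (inferInstance : GeometricallyIntegral (pullback.snd G.hom f))
  have h3 : IsAffineHom pr := MorphismProperty.pullback_fst _ _ inferInstance
  have h4 := Groth.Agent.Ega2.Weight.genLocus_pullHom pr hL s
  rw [hloc] at h4
  have hne : (CohB1.genLocus ((Scheme.Modules.pullback pr).obj L) (Groth.Agent.Ega2.Weight.pullHom pr s) :
      Set A.left).Nonempty := by
    rw [h4]
    have hη : G.hom ((η : 𝟙_ (Over S) ⟶ G).left t) = t := by
      rw [← Scheme.Hom.comp_apply, Over.w (η : 𝟙_ (Over S) ⟶ G)]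
      rfl
    have hmem : (η : 𝟙_ (Over S) ⟶ G).left t ∈ Set.range (G.hom.fiberι t) := by
      rw [G.hom.range_fiberι]
      exact hη
    obtain ⟨z, hz⟩ := hmem
    refine ⟨z, ?_⟩
    change pr z ∈ V
    have hz' : pr z = (η : 𝟙_ (Over S) ⟶ G).left t := hz
    rw [hz']
    exact hV t
  have haff : IsAffineOpen (CohB1.genLocus ((Scheme.Modules.pullback pr).obj L)
      (Groth.Agent.Ega2.Weight.pullHom pr s)) := by
    rw [h4]
    exact hVa.preimage pr
  exact K449.AmpAb.isAmple (G := A) (isInvertible_pullback pr hL) (Groth.Agent.Ega2.Weight.pullHom pr s) hne haff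

end K615.NormAmp
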