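import Groth.Agent.AbSch.K615.PrincDesc
import Groth.Agent.S1573
import Groth.Agent.S7885
import Groth.Agent.Divis.RadStalk
import Groth.Agent.Divis.CartierStalk
import Groth.Agent.Divis.UfdIdeal
import Groth.Agent.Divis.StalkPrime
import Groth.Agent.Etalg.NormalDvr
import Groth.Agent.AlgSp.K618.Dim
import Groth.Prelude.Def_Pi1

/-!
# The complement of an affine open in a normal scheme

`X` locally Noetherian, `V ⊆ X` dense open with `V → X` affine, `J V` the reduced ideal sheaf of the complement.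
* `height_eq_one`: the minimal primes of the stalks of `J V` have height one.
* `isPrincipal_of_ufd`: the stalk is principal if the local ring is a UFD.
* `isPrincipal_of_flat`: if `p : Y ⟶ X` is flat, `X`, `Y` normal, and the pullback of `J V` is generated near
  `y : Y` by one function over the preimage of an open `U` containing the points of codimension at most one, then
  the stalk of `J V` at `p y` is principal.
-/

set_option autoImplicit false
universe u

open CategoryTheory CategoryTheory.Limits AlgebraicGeometry TopologicalSpace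

namespace K615.NormCart

open Groth.Agent.Divis.CartierBasic Groth.Agent.Divis.CartierStalk Groth.Agent.CycB.LocQuot
  Groth.Agent.Divis.StalkPrime Groth.Agent.Divis.RadStalk Groth.Agent.Fdesc

variable {X : Scheme.{u}}

/-- The reduced ideal sheaf of the complement of `V`. -/
noncomputable def J (V : X.Opens) : X.IdealSheafData :=
  Scheme.IdealSheafData.vanishingIdeal ⟨(V : Set X)ᶜ, V.2.isClosed_compl⟩

theorem support_J (V : X.Opens) : ((J V).support : Set X) = (V : Set X)ᶜ :=
  Scheme.IdealSheafData.coe_support_vanishingIdeal _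

theorem mem_support_J (V : X.Opens) (x : X) : x ∈ (J V).support ↔ x ∉ V := by
  have h := Set.ext_iff.mp (support_J V) x
  exact h

theorem radical_J (V : X.Opens) : (J V).radical = J V := by
  have hsupp : (J V).support = ⟨(V : Set X)ᶜ, V.2.isClosed_compl⟩ := Closeds.ext (support_J V)
  rw [← Scheme.IdealSheafData.vanishingIdeal_support, hsupp]
  rfl

theorem stalkIdeal_of_mem (V : X.Opens) {x : X} (hx : x ∈ V) : stalkIdeal (J V) x = ⊤ := by
  rw [← notMem_support_iff_stalkIdeal_eq_top, mem_support_J, not_not]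
  exact hx

theorem height_eq_one [IsLocallyNoetherian X] (V : X.Opens) [IsAffineHom V.ι] (hd : Dense (V : Set X)) (x : X)
    (q : PrimeSpectrum (X.presheaf.stalk x)) (hq : q.asIdeal ∈ (stalkIdeal (J V) x).minimalPrimes) :
    q.asIdeal.height = 1 := by
  have h1 : ptOf q ∉ V := by
    have h2 : ptOf q ∈ (J V).support := by
      rw [ptOf, fromSpecStalk_mem_support_iff]; exact hq.1.2
    rwa [mem_support_J] at h2
  have h3 := (Groth.Agent.S1573.result X V (ptOf q) h1 (by
    intro y hy hyq
    have h4 : y ⤳ x := hyq.trans (ptOf_specializes _)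
    have h5 : ptOf (primeOf h4) ∈ (J V).support := by
      rw [ptOf_primeOf, mem_support_J]; exact hy
    rw [ptOf, fromSpecStalk_mem_support_iff] at h5
    have h6 : ptOf (primeOf h4) ⤳ ptOf q := by rw [ptOf_primeOf]; exact hyq
    rw [ptOf_specializes_iff] at h6
    have h7 : primeOf h4 = q := le_antisymm h6 (hq.2 ⟨(primeOf h4).isPrime, h5⟩ h6)
    rw [← ptOf_primeOf h4, h7])).2 hd
  rw [height_eq] at h3
  exact_mod_cast h3

theorem ne_bot [IsLocallyNoetherian X] (V : X.Opens) [IsAffineHom V.ι] (hd : Dense (V : Set X)) (x : X)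
    (hdom : IsDomain (X.presheaf.stalk x)) : stalkIdeal (J V) x ≠ ⊥ := by
  intro hbot
  have h1 := height_eq_one V hd x ⟨⊥, Ideal.isPrime_bot⟩ (by
    have : (⊥ : Ideal (X.presheaf.stalk x)).IsPrime := Ideal.isPrime_bot
    rw [hbot, Ideal.minimalPrimes_eq_subsingleton_self]; rfl)
  change (⊥ : Ideal (X.presheaf.stalk x)).height = 1 at h1
  rw [Ideal.height_bot] at h1
  exact zero_ne_one h1

theorem isPrincipal_of_ufd [IsLocallyNoetherian X] (V : X.Opens) [IsAffineHom V.ι] (hd : Dense (V : Set X)) (x : X)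
    (hdom : IsDomain (X.presheaf.stalk x)) (hUF : UniqueFactorizationMonoid (X.presheaf.stalk x)) :
    (stalkIdeal (J V) x).IsPrincipal := by
  refine Groth.Agent.Divis.UfdIdeal.isPrincipal_of_assoc_principal _ (ne_bot V hd x hdom) ?_
  intro p hp a ha
  apply UniqueFactorizationMonoid.isPrincipal_of_height_eq_one
  exact height_eq_one V hd x ⟨p, hp⟩ (mem_minimalPrimes_of_colon _ (stalkIdeal_isRadical _ (radical_J V) x) p a ha)

theorem exists_nonZeroDivisor [IsLocallyNoetherian X] (V : X.Opens) [IsAffineHom V.ι] (hd : Dense (V : Set X)) (x : X)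
    (hdom : IsDomain (X.presheaf.stalk x)) (h : (stalkIdeal (J V) x).IsPrincipal) :
    ∃ g ∈ nonZeroDivisors (X.presheaf.stalk x), stalkIdeal (J V) x = Ideal.span {g} := by
  obtain ⟨g, hg⟩ := h
  refine ⟨g, mem_nonZeroDivisors_of_ne_zero ?_, hg⟩
  rintro rfl
  exact ne_bot V hd x hdom (by rw [hg]; simp)

/-- The locus where the stalks of `J V` are principal. -/
theorem isOpen_principal [IsLocallyNoetherian X] (hX : Pi1.IsNormalScheme X) (V : X.Opens) [IsAffineHom V.ι]
    (hd : Dense (V : Set X)) : IsOpen {x : X | (stalkIdeal (J V) x).IsPrincipal} := by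
  rw [isOpen_iff_forall_mem_open]
  intro x hx
  obtain ⟨g, hg, hg'⟩ := exists_nonZeroDivisor V hd x (hX x).1 hx
  obtain ⟨U, hxU, f, hf, hf'⟩ := exists_generator_of_stalkIdeal (J V) x g hg hg'
  refine ⟨U.1, fun y hy => ?_, U.1.2, hxU⟩
  refine ⟨X.presheaf.germ U.1 y hy f, ?_⟩
  rw [stalkIdeal_eq (J V) U hy, hf', Ideal.map_span, Set.image_singleton]

theorem isEffCartierIdeal [IsLocallyNoetherian X] (hX : Pi1.IsNormalScheme X) (V : X.Opens) [IsAffineHom V.ι]
    (hd : Dense (V : Set X)) (h : ∀ x : X, (stalkIdeal (J V) x).IsPrincipal) :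
    BlowUp.IsEffCartierIdeal (J V) :=
  isEffCartierIdeal_of_stalkIdeal _ fun x _ => exists_nonZeroDivisor V hd x (hX x).1 (h x)

/-- stalk ideals at generizations -/
theorem stalkIdeal_specializes (I : X.IdealSheafData) {x y : X} (h : y ⤳ x) :
    stalkIdeal I y = (stalkIdeal I x).map (X.presheaf.stalkSpecializes h).hom := by
  obtain ⟨U, hxU⟩ := exists_affine x
  have hyU : y ∈ U.1 := h.mem_open U.1.2 hxU
  rw [stalkIdeal_eq I U hxU, stalkIdeal_eq I U hyU, Ideal.map_map, ← CommRingCat.hom_comp,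
    TopCat.Presheaf.germ_stalkSpecializes]

/-- membership in the stalk ideal at a generization, denominators cleared -/
theorem exists_mul_mem {x y : X} (h : y ⤳ x) (I : Ideal (X.presheaf.stalk x)) (a : X.presheaf.stalk x)
    (ha : (X.presheaf.stalkSpecializes h).hom a ∈ I.map (X.presheaf.stalkSpecializes h).hom) :
    ∃ s ∉ (primeOf h).asIdeal, s * a ∈ I := by
  let := (X.presheaf.stalkSpecializes h).hom.toAlgebra
  have hloc := isLocalization_stalkSpecializes h
  have h4 : algebraMap (X.presheaf.stalk x) (X.presheaf.stalk y) a ∈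
      I.map (algebraMap (X.presheaf.stalk x) (X.presheaf.stalk y)) := ha
  rw [IsLocalization.algebraMap_mem_map_algebraMap_iff (RingHom.ker (Cyc.specMap x y h)).primeCompl] at h4
  obtain ⟨s, hsP, hsf⟩ := h4
  refine ⟨s, ?_, hsf⟩
  rw [primeOf_asIdeal]
  exact hsP

theorem le_one_of_lt_two {x : WithBot ℕ∞} (h : x < 2) : x ≤ 1 := by
  induction x using WithBot.recBotCoe with
  | bot => exact bot_le
  | coe x =>
    have h1 : x < 2 := WithBot.coe_lt_coe.mp (show (x : WithBot ℕ∞) < ((2 : ℕ∞) : WithBot ℕ∞) from h)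
    have h2 : x ≤ 1 := by
      cases x using ENat.recTopCoe with
      | top => simp at h1
      | coe n => norm_cast at *; omega
    exact WithBot.coe_le_coe.mpr h2

section Flat

variable {Y : Scheme.{u}} (p : Y ⟶ X) [Flat p] [IsLocallyNoetherian X] [IsLocallyNoetherian Y]

/-- The pullback of `J V` is generated near `y` over the preimage of `U` by one function: then the stalk of
`J V` at `p y` is principal. -/
theorem isPrincipal_of_flat (hX : Pi1.IsNormalScheme X) (hY : Pi1.IsNormalScheme Y) (V : X.Opens) [IsAffineHom V.ι]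
    (hd : Dense (V : Set X)) (U : X.Opens) (hU : ∀ x : X, ringKrullDim (X.presheaf.stalk x) ≤ 1 → x ∈ U)
    (y : Y) (N : Y.Opens) (hyN : y ∈ N) (a : Γ(Y, N ⊓ p ⁻¹ᵁ U))
    (ha : ∀ (z : Y) (hz : z ∈ N ⊓ p ⁻¹ᵁ U), stalkIdeal ((J V).comap p) z =
      Ideal.span {(Y.presheaf.germ (N ⊓ p ⁻¹ᵁ U) z hz).hom a}) :
    (stalkIdeal (J V) (p y)).IsPrincipal := by
  -- points of codimension at most one
  have hUY : ∀ z : Y, ringKrullDim (Y.presheaf.stalk z) ≤ 1 → z ∈ p ⁻¹ᵁ U := fun z hz =>
    hU _ ((K618.Dim.stalkDim_le_of_flat p z).trans hz)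
  -- extension of the function
  obtain ⟨a₀, rfl⟩ := (Groth.Agent.S7885.hartogs_fun hY (p ⁻¹ᵁ U) (by
    intro z hz
    by_contra hcon
    exact hz (hUY z (le_one_of_lt_two (not_le.mp hcon)))) (Groth.Agent.S7885.isInvertible_structureModule Y) N).2 a
  set g : Y.presheaf.stalk y := (Y.presheaf.germ N y hyN).hom a₀ with hg
  have hspec : ∀ (z : Y) (hzy : z ⤳ y) (hzU : z ∈ p ⁻¹ᵁ U),
      (stalkIdeal ((J V).comap p) y).map (Y.presheaf.stalkSpecializes hzy).hom =
        Ideal.span {(Y.presheaf.stalkSpecializes hzy).hom g} := by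
    intro z hzy hzU
    have hzN : z ∈ N := hzy.mem_open N.2 hyN
    rw [← stalkIdeal_specializes, ha z ⟨hzN, hzU⟩]
    congr 2
    rw [hg, ← CommRingCat.comp_apply, TopCat.Presheaf.germ_stalkSpecializes]
    exact congrArg (fun k => k.hom a₀) (Y.presheaf.germ_res (homOfLE (inf_le_left : N ⊓ p ⁻¹ᵁ U ≤ N)) z ⟨hzN, hzU⟩)
  -- `A = O_{X, p y} → B = O_{Y, y}`
  let A := X.presheaf.stalk (p y)
  let B := Y.presheaf.stalk y
  let : Algebra A B := (p.stalkMap y).hom.toAlgebra
  have hflat : Module.Flat A B := Flat.stalkMap p y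
  have hloc : IsLocalHom (algebraMap A B) := (inferInstance : IsLocalHom (p.stalkMap y).hom)
  have hB := (hY y).1
  have hB' := (hY y).2
  have hcomap : stalkIdeal ((J V).comap p) y = (stalkIdeal (J V) (p y)).map (algebraMap A B) :=
    stalkIdeal_comap _ _ _
  -- `g` is in the ideal
  have hgmem : g ∈ (stalkIdeal (J V) (p y)).map (algebraMap A B) := by
    refine K615.PrincDesc.mem_map_of_forall _ (stalkIdeal_isRadical _ (radical_J V) _)
      (((X.fromSpecStalk (p y)) ⁻¹ᵁ U : (Spec (X.presheaf.stalk (p y))).Opens) : Set (Spec (X.presheaf.stalk (p y))))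
      ((X.fromSpecStalk (p y)) ⁻¹ᵁ U : (Spec (X.presheaf.stalk (p y))).Opens).2 ?_ g ?_
    · intro q hq
      refine hU _ ?_
      have h1 := height_eq_one V hd (p y) q hq
      have h2 := height_eq q
      rw [h1] at h2
      exact h2.le
    · intro Q hQ
      have hzy : ptOf Q ⤳ y := ptOf_specializes Q
      have hzU : ptOf Q ∈ p ⁻¹ᵁ U := by
        have h1 : p (ptOf Q) = X.fromSpecStalk (p y) (PrimeSpectrum.comap (algebraMap A B) Q) := by
          have h2 := congrArg (fun k => k.base.hom Q) (Scheme.SpecMap_stalkMap_fromSpecStalk p (x := y))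
          exact h2.symm
        change p (ptOf Q) ∈ U
        rw [h1]
        exact hQ
      have h3 : (Y.presheaf.stalkSpecializes hzy).hom g ∈
          (stalkIdeal ((J V).comap p) y).map (Y.presheaf.stalkSpecializes hzy).hom := by
        rw [hspec _ hzy hzU]
        exact Ideal.mem_span_singleton_self _
      obtain ⟨s, hs, hs'⟩ := exists_mul_mem hzy _ g h3
      rw [primeOf_ptOf] at hs
      rw [hcomap] at hs'
      exact ⟨s, hs, hs'⟩
  -- `g ≠ 0`
  have hg0 : g ≠ 0 := by
    intro h0
    have hηy : ptOf (⟨⊥, Ideal.isPrime_bot⟩ : PrimeSpectrum B) ⤳ y := ptOf_specializes _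
    have hηU : ptOf (⟨⊥, Ideal.isPrime_bot⟩ : PrimeSpectrum B) ∈ p ⁻¹ᵁ U := by
      refine hUY _ ?_
      rw [height_eq]
      change (((⊥ : Ideal B).height : ℕ∞) : WithBot ℕ∞) ≤ 1
      rw [Ideal.height_bot]
      exact zero_le_one
    have h1 := hspec _ hηy hηU
    rw [h0, map_zero, Ideal.span_singleton_zero, Ideal.map_eq_bot_iff_le_ker] at h1
    have h2 : RingHom.ker (Y.presheaf.stalkSpecializes hηy).hom ≤ ⊥ := by
      intro b hb
      have h3 : b ∈ (primeOf hηy).asIdeal := by
        rw [primeOf_asIdeal, mem_ker_specMap_iff, (RingHom.mem_ker).mp hb]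
        exact not_isUnit_zero
      rwa [primeOf_ptOf] at h3
    rw [hcomap] at h1
    have h4 := (h1.trans h2)
    have hff : Module.FaithfullyFlat A B := Module.FaithfullyFlat.of_flat_of_isLocalHom
    have h5 : stalkIdeal (J V) (p y) = ⊥ := by
      rw [← Ideal.comap_map_eq_self_of_faithfullyFlat (B := B) (stalkIdeal (J V) (p y)), le_bot_iff.mp h4,
        ← Ideal.map_bot (f := algebraMap A B), Ideal.comap_map_eq_self_of_faithfullyFlat]
    exact ne_bot V hd (p y) (hX _).1 h5
  refine K615.PrincDesc.isPrincipal_of_map (B := B) _ ⟨g, le_antisymm ?_ ?_⟩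
  · intro f hf
    by_contra hfg
    obtain ⟨P, hP, hgP, hdvr, hs⟩ := Groth.Agent.Etalg.NormalDvr.exists_dvr_prime_of_notMem_span B hg0 hfg
    have hht := Groth.Agent.Etalg.NormalDvr.height_eq_one_of_dvr B P hdvr
    have hzy : ptOf (⟨P, hP⟩ : PrimeSpectrum B) ⤳ y := ptOf_specializes _
    have hzU : ptOf (⟨P, hP⟩ : PrimeSpectrum B) ∈ p ⁻¹ᵁ U := by
      refine hUY _ ?_
      rw [height_eq]
      change ((P.height : ℕ∞) : WithBot ℕ∞) ≤ 1
      rw [hht]
      rfl
    have h1 : (Y.presheaf.stalkSpecializes hzy).hom f ∈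
        (Ideal.span {g}).map (Y.presheaf.stalkSpecializes hzy).hom := by
      rw [Ideal.map_span, Set.image_singleton, ← hspec _ hzy hzU, hcomap]
      exact Ideal.mem_map_of_mem _ hf
    obtain ⟨s, hs1, hs2⟩ := exists_mul_mem hzy _ f h1
    rw [primeOf_ptOf] at hs1
    exact hs1 (hs s hs2)
  · change Ideal.span {g} ≤ _
    rw [Ideal.span_singleton_le_iff_mem]
    exact hgmem

end Flat

end K615.NormCart
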