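import Groth.Agent.AbSch.K615.TorsPiece
import Groth.Agent.AbSch.K615.FieldNS
import Groth.Agent.AbSch.K629.NormNS
import Groth.Agent.AbSch.K630.Dvr

/-!
# `n`-splittings of extensions of abelian schemes over normal bases

`R` a Noetherian normal domain, `D` an extension of the abelian scheme `T` by the abelian scheme `A` over `R`.
* `ns_of_gen`: an `n`-splitting over the generic point extends to an `n`-splitting over `R`;
* `exists_ns`: there is an `n`-splitting over `R` for some `n > 0`;
* `normExt`: helper629's `K629.NormNS.NormExt`.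
-/

set_option autoImplicit false
universe u
open CategoryTheory CategoryTheory.Limits MonoidalCategory CartesianMonoidalCategory MonObj AlgebraicGeometry Opposite

noncomputable section

namespace K615.NormNS

open Groth.Agent.Etdl.H432.Sec K452.HomPts K771.HomEv K630.AbExt

section

variable {R : Type u} [CommRing R] [IsDomain R] {T A : Over (Spec (CommRingCat.of R))}
  [GrpObj T] [IsCommMonObj T] [GrpObj A] [IsCommMonObj A]

/-- The value of the extended section on torsion pieces. -/
theorem exists_val [IsNoetherianRing R] [IsIntegrallyClosed R] [Smooth A.hom] [IsProper A.hom]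
    [GeometricallyConnected A.hom] (D : Dat T A) {X : Over (Spec (CommRingCat.of R))} (p : X ⟶ T)
    (e : Γs D.E X) (he : m D.q X e = sec p) {n : ℕ} (τ : Γs D.H (gen R)) (a : X ⊗ gen R ⟶ A)
    (ha : m D.i (X ⊗ gen R) (sec a) =
      n • r D.E (fst X (gen R)) e - ev τ (snd X (gen R)) (sec (fst X (gen R) ≫ p)))
    {k : ℕ} (hk : k ≠ 0) {Z : Over (Spec (CommRingCat.of R))} (z : Z ⟶ X) [Smooth Z.hom] [IsSeparated Z.hom]
    (hz : (z ≫ p) ^ k = 1) : ∃ b : Z ⟶ A, fst Z (gen R) ≫ b = (z ▷ gen R) ≫ a := by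
  have i1 : GeometricallyReduced A.hom := K448.SmoothConn.geometricallyReduced _
  obtain ⟨b', hb'⟩ := D.exists_i (k • r D.E z e) (by
    rw [map_nsmul, m_r, he, r_sec, ← sec_pow, hz, sec_one])
  have hα : fst Z (gen R) ≫ (pt b') ^ n = ((z ▷ gen R) ≫ a) ≫ 𝟙 A ^ k := by
    rw [MonObj.comp_pow, MonObj.comp_pow, Category.comp_id]
    apply sec_inj
    apply D.i_inj
    rw [sec_pow, sec_pow, map_nsmul, map_nsmul, ← r_sec, ← r_sec, sec_pt, m_r, m_r, hb', ha]
    rw [map_sub, map_nsmul, r_r, ev_r', r_sec, map_nsmul, r_r]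
    have e1 : (z ▷ gen R) ≫ fst X (gen R) = fst Z (gen R) ≫ z := whiskerRight_fst _ _
    have e2 : (z ▷ gen R) ≫ snd X (gen R) = snd Z (gen R) := whiskerRight_snd _ _
    rw [e1, e2, ← Category.assoc (z ▷ gen R), e1, Category.assoc, smul_sub]
    have e3 : k • (ev τ (snd Z (gen R)) (sec (fst Z (gen R) ≫ z ≫ p))) = 0 := by
      rw [← map_nsmul, ← sec_pow, ← MonObj.comp_pow, hz, MonObj.comp_one, sec_one, map_zero]
    rw [e3, sub_zero, smul_smul, smul_smul, mul_comm]
  let Q := pullback ((pt b') ^ n) (𝟙 A ^ k : A ⟶ A)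
  have hfin : IsFinite (pullback.fst ((pt b') ^ n) (𝟙 A ^ k : A ⟶ A)).left := by
    have h1 := (K454.MulEpi.isFinite_flat_surjective_zpow A (k : ℤ) (by exact_mod_cast hk)).1
    rw [zpow_natCast] at h1
    exact MorphismProperty.of_isPullback ((IsPullback.of_hasPullback ((pt b') ^ n)
      (𝟙 A ^ k : A ⟶ A)).map (Over.forget _)).flip h1
  have hZn : Pi1.IsNormalScheme Z.left :=
    K97.ModTools.isNormalScheme_of_smooth
      (Groth.Agent.Lefpen.H416.NormalBase.isNormalScheme_spec R) Z.hom
  have hZl : IsLocallyNoetherian Z.left := LocallyOfFiniteType.isLocallyNoetherian Z.hom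
  obtain ⟨c', hc'⟩ := K615.GraphExt.exists_of_finite hZn (pullback.fst ((pt b') ^ n) (𝟙 A ^ k : A ⟶ A))
    (pullback.lift (fst Z (gen R)) ((z ▷ gen R) ≫ a) hα) (pullback.lift_fst _ _ _)
  refine ⟨c' ≫ pullback.snd _ _, ?_⟩
  rw [← Category.assoc, hc', pullback.lift_snd]

omit [IsDomain R] in
/-- A prime number which is invertible at a given point. -/
theorem exists_prime (s : Spec (CommRingCat.of R)) : ∃ l : ℕ, 2 ≤ l ∧ (l : R) ∉ s.asIdeal := by
  by_cases h2 : ((2 : ℕ) : R) ∈ s.asIdeal
  · refine ⟨3, by norm_num, fun h3 => s.2.ne_top ((Ideal.eq_top_iff_one _).mpr ?_)⟩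
    have h4 := s.asIdeal.sub_mem h3 h2
    have h5 : ((3 : ℕ) : R) - ((2 : ℕ) : R) = 1 := by push_cast; ring
    rwa [h5] at h4
  · exact ⟨2, le_rfl, h2⟩

/-- **An `n`-splitting over the generic point of a normal base extends.** -/
theorem ns_of_gen [IsNoetherianRing R] [IsIntegrallyClosed R] [Smooth T.hom] [IsProper T.hom]
    [GeometricallyConnected T.hom] [Smooth A.hom] [IsProper A.hom] [GeometricallyConnected A.hom]
    (D : Dat T A) {n : ℕ} (h : D.NS n (gen R)) : D.NS n (𝟙_ (Over (Spec (CommRingCat.of R)))) := by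
  obtain ⟨τ, hτ⟩ := h
  have hcT : CompactSpace T.left := by
    have h1 : QuasiCompact T.hom := inferInstance
    exact QuasiCompact.compactSpace_of_compactSpace T.hom
  obtain ⟨X, p, e, hXa, hp1, hp2, he⟩ := K595.Chart.exists_chart D
  have hX : Smooth X.hom := by
    rw [← Over.w p]
    infer_instance
  have hXs : IsSeparated X.hom := by
    have : IsAffineHom X.hom := inferInstance
    infer_instance
  have hXn : Pi1.IsNormalScheme X.left :=
    K97.ModTools.isNormalScheme_of_smooth
      (Groth.Agent.Lefpen.H416.NormalBase.isNormalScheme_spec R) X.hom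
  have h1 : m D.q (X ⊗ gen R) (n • r D.E (fst X (gen R)) e - ev τ (snd X (gen R)) (sec (fst X (gen R) ≫ p))) = 0 := by
    rw [map_sub, map_nsmul, m_r, he, hτ, r_sec, sub_self]
  obtain ⟨a, ha⟩ := D.exists_i _ h1
  have ha' : m D.i (X ⊗ gen R) (sec (pt a)) =
      n • r D.E (fst X (gen R)) e - ev τ (snd X (gen R)) (sec (fst X (gen R) ≫ p)) := by
    rw [sec_pt, ha]
  obtain ⟨a', ha''⟩ := K615.GraphExt.exists_ext hXn (pt a) (fun x => by
    obtain ⟨l, hl2, hl⟩ := exists_prime (X.hom x)
    let U : Over (Spec (CommRingCat.of R)) :=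
      Over.mk (Spec.map (CommRingCat.ofHom (algebraMap R (Localization.Away (l : R)))))
    have hU : IsOpenImmersion U.hom := IsOpenImmersion.of_isLocalization (l : R)
    have hu : ∀ k : ℕ, IsUnit (((l ^ k : ℕ) : ℤ) : Γ(U.left, ⊤)) := fun k => by
      have h2 : IsUnit ((l ^ k : ℕ) : Localization.Away (l : R)) := by
        have := IsLocalization.Away.algebraMap_isUnit (S := Localization.Away (l : R)) (l : R)
        rw [map_natCast] at this
        rw [Nat.cast_pow]
        exact this.pow k
      have h3 := h2.map (Scheme.ΓSpecIso (CommRingCat.of (Localization.Away (l : R)))).inv.hom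
      rw [map_natCast] at h3
      rw [Int.cast_natCast]
      exact h3
    have hpc : ∀ k : ℕ, ∃ (Z : Over (Spec (CommRingCat.of R))) (z : Z ⟶ X) (u : Z ⟶ U), Smooth u.left ∧
        IsSeparated Z.hom ∧ (z ≫ p) ^ (l ^ k) = 1 ∧
        ∀ (W : Over (Spec (CommRingCat.of R))) (w : W ⟶ X) (_ : W ⟶ U), (w ≫ p) ^ (l ^ k) = 1 →
          ∃ ζ : W ⟶ Z, ζ ≫ z = w := fun k => K615.TorsPiece.exists_piece p (l ^ k) (hu k)
    choose Z z u hZ1 hZ2 hZ3 hZ4 using hpc
    have hZs : ∀ k, Smooth (Z k).hom := fun k => by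
      rw [← Over.w (u k)]
      have := hZ1 k
      infer_instance
    have hb : ∀ k, ∃ b : Z k ⟶ A, fst (Z k) (gen R) ≫ b = (z k ▷ gen R) ≫ pt a := fun k => by
      have i1 := hZs k
      have i2 := hZ2 k
      exact exists_val D p e he τ (pt a) ha' (k := l ^ k) (pow_ne_zero _ (by omega)) (z k) (hZ3 k)
    choose b hb using hb
    refine ⟨ULift.{u} ℕ, fun k => Z k.down, fun k => z k.down, fun k => b k.down, fun k => ?_, fun k => hb k.down, ?_⟩
    · have := hZs k.down
      infer_instance
    · intro Ω _ _ t ht c d hcd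
      obtain ⟨φ, rfl⟩ := Spec.map_surjective t
      have hφ : (l : Ω) ≠ 0 := by
        intro h0
        apply hl
        rw [← ht]
        change φ.hom (l : R) ∈ IsLocalRing.maximalIdeal Ω
        rw [map_natCast]
        exact (congrArg (· ∈ IsLocalRing.maximalIdeal Ω) h0).mpr (zero_mem _)
      have hφu : IsUnit (φ.hom (l : R)) := by
        rw [map_natCast]
        exact isUnit_iff_ne_zero.mpr hφ
      let v : Over.mk (Spec.map φ) ⟶ U := Over.homMk (Spec.map (CommRingCat.ofHom
        (IsLocalization.Away.lift (S := Localization.Away (l : R)) (l : R) hφu))) (by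
          change Spec.map _ ≫ Spec.map _ = Spec.map φ
          rw [← Spec.map_comp]
          congr 1
          apply CommRingCat.hom_ext
          exact IsLocalization.Away.lift_comp (l : R) hφu)
      refine K615.TorsDense.ext_of_torsion p (Spec.map φ) c d l hφ hl2 fun k W w hw => ?_
      obtain ⟨ζ, hζ⟩ := hZ4 k W (w ≫ fst X _) (w ≫ snd X _ ≫ v) hw
      have hw' : w = lift ζ (w ≫ snd X _) ≫ (z k ▷ Over.mk (Spec.map φ)) := by
        apply CartesianMonoidalCategory.hom_ext
        · rw [Category.assoc, whiskerRight_fst, lift_fst_assoc, hζ]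
        · rw [Category.assoc, whiskerRight_snd, lift_snd]
      rw [hw', Category.assoc, Category.assoc, hcd ⟨k⟩])
  obtain ⟨σ, hσ, -⟩ := Dat.ns_of_dense (D := D) (dense_gen R) p (n := n) (n • e - m D.i X (sec a')) (by
      rw [map_sub, map_nsmul, he, D.q_i, sub_zero]) (fun _ => τ) (fun _ => by
      rw [map_sub, map_nsmul, ← m_r, r_sec, ha'', ha']
      abel)
  exact ⟨σ, hσ⟩

/-- **Extensions of abelian schemes over Noetherian normal domains have `n`-splittings.** -/
theorem exists_ns [IsNoetherianRing R] [IsIntegrallyClosed R] [Smooth T.hom] [IsProper T.hom]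
    [GeometricallyConnected T.hom] [Smooth A.hom] [IsProper A.hom] [GeometricallyConnected A.hom]
    (D : Dat T A) : ∃ n : ℕ, 0 < n ∧ D.NS n (𝟙_ (Over (Spec (CommRingCat.of R)))) := by
  have b1 : Smooth (Red.bc (gen R).hom A).hom := (inferInstance : Smooth (pullback.snd A.hom (gen R).hom))
  have b2 : IsProper (Red.bc (gen R).hom A).hom := (inferInstance : IsProper (pullback.snd A.hom (gen R).hom))
  have b3 : GeometricallyConnected (Red.bc (gen R).hom A).hom :=
    (inferInstance : GeometricallyConnected (pullback.snd A.hom (gen R).hom))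
  have c1 : Smooth (Red.bc (gen R).hom T).hom := (inferInstance : Smooth (pullback.snd T.hom (gen R).hom))
  have c2 : IsProper (Red.bc (gen R).hom T).hom := (inferInstance : IsProper (pullback.snd T.hom (gen R).hom))
  have c3 : GeometricallyConnected (Red.bc (gen R).hom T).hom :=
    (inferInstance : GeometricallyConnected (pullback.snd T.hom (gen R).hom))
  obtain ⟨n, hn, h⟩ := K615.FieldNS.exists_ns (k := FractionRing R) (K629.NSLoc.res (gen R) D)
  exact ⟨n, hn, ns_of_gen D ((K629.NSLoc.ns_res_one (gen R) D n).mp h)⟩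

end

theorem normExt : K629.NormNS.NormExt.{u} := fun B _ _ _ _ T A _ _ _ _ _ _ _ _ _ _ D => by
  have hN : IsNoetherianRing B := Algebra.FiniteType.isNoetherianRing ℤ B
  exact exists_ns D

end K615.NormNS
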