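import Mathlib.RingTheory.Flat.FaithfullyFlat.Algebra
import Mathlib.RingTheory.Regular.Flat
import Mathlib.RingTheory.Ideal.MinimalPrime.Noetherian
import Mathlib.RingTheory.Ideal.Quotient.Noetherian
import Mathlib.RingTheory.Spectrum.Prime.Topology
import Mathlib.LinearAlgebra.TensorProduct.Quotient
import Mathlib.RingTheory.LocalRing.Basic

/-!
# Principal ideals and flat local extensions

* `isPrincipal_of_map`: an ideal of a local ring which becomes principal in a flat local extension is principal.
* `mem_map_of_forall`: membership in the extension of a radical ideal can be checked at the primes over a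
  neighbourhood of the minimal primes of the ideal.
-/

set_option autoImplicit false
universe u

open scoped TensorProduct

namespace K615.PrincDesc

variable {A B : Type u} [CommRing A] [CommRing B] [Algebra A B]

/-- An ideal of a local ring which becomes principal in a flat local extension is principal. -/
theorem isPrincipal_of_map [IsLocalRing A] [IsLocalRing B] [IsLocalHom (algebraMap A B)] [Module.Flat A B]
    (I : Ideal A) (h : (I.map (algebraMap A B)).IsPrincipal) : I.IsPrincipal := by
  have hff : Module.FaithfullyFlat A B := Module.FaithfullyFlat.of_flat_of_isLocalHom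
  obtain ⟨g, hg⟩ := h
  by_cases hx : ∃ x ∈ I, ∃ b : B, IsUnit b ∧ algebraMap A B x = b * g
  · obtain ⟨x, hxI, b, hb, hxb⟩ := hx
    refine ⟨x, ?_⟩
    have h1 : I.map (algebraMap A B) = (Ideal.span {x}).map (algebraMap A B) := by
      rw [hg, Ideal.map_span, Set.image_singleton, hxb, mul_comm]
      exact (Ideal.span_singleton_mul_right_unit hb g).symm
    rw [← Ideal.comap_map_eq_self_of_faithfullyFlat (B := B) I, h1,
      Ideal.comap_map_eq_self_of_faithfullyFlat]
  · push Not at hx
    have h1 : I.map (algebraMap A B) ≤ IsLocalRing.maximalIdeal B • Ideal.span {g} := by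
      rw [Ideal.map_le_iff_le_comap]
      intro x hxI
      have h2 : algebraMap A B x ∈ I.map (algebraMap A B) := Ideal.mem_map_of_mem _ hxI
      rw [hg] at h2
      obtain ⟨b, hb⟩ := Ideal.mem_span_singleton'.mp h2
      have h3 : ¬ IsUnit b := fun hu => hx x hxI b hu hb.symm
      rw [Ideal.mem_comap, ← hb]
      exact Ideal.mul_mem_mul ((IsLocalRing.mem_maximalIdeal _).mpr h3) (Ideal.mem_span_singleton_self _)
    have h4 : (Ideal.span {g} : Ideal B) = ⊥ := by
      refine Submodule.eq_bot_of_le_smul_of_le_jacobson_bot (IsLocalRing.maximalIdeal B) _ ?_ ?_ ?_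
      · exact ⟨{g}, by simp⟩
      · exact le_trans (le_of_eq hg.symm) h1
      · rw [IsLocalRing.jacobson_eq_maximalIdeal ⊥ bot_ne_top]
    have h5 : I = ⊥ := by
      rw [← Ideal.comap_map_eq_self_of_faithfullyFlat (B := B) I, hg]
      change Ideal.comap (algebraMap A B) (Ideal.span {g}) = ⊥
      rw [h4, ← Ideal.map_bot (f := algebraMap A B), Ideal.comap_map_eq_self_of_faithfullyFlat]
    rw [h5]
    infer_instance

/-- A nonzerodivisor modulo `I` is a nonzerodivisor modulo the extension of `I` to a flat algebra. -/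
theorem mem_map_of_mul_mem [Module.Flat A B] (I : Ideal A) (h : A) (hI : ∀ a : A, h * a ∈ I → a ∈ I)
    {b : B} (hb : algebraMap A B h * b ∈ I.map (algebraMap A B)) : b ∈ I.map (algebraMap A B) := by
  have h1 : IsSMulRegular (A ⧸ I) h := by
    rw [isSMulRegular_iff_right_eq_zero_of_smul]
    intro x hx
    obtain ⟨a, rfl⟩ := Ideal.Quotient.mk_surjective x
    have h2 : Ideal.Quotient.mk I (h * a) = 0 := by
      rw [← smul_eq_mul]
      exact hx
    rw [Ideal.Quotient.eq_zero_iff_mem] at h2 ⊢
    exact hI a h2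
  have h3 : IsSMulRegular (B ⊗[A] (A ⧸ I)) (algebraMap A B h) :=
    h1.of_flat_of_isBaseChange (TensorProduct.isBaseChange A (A ⧸ I) B)
  have h4 : IsSMulRegular (B ⧸ I.map (algebraMap A B)) (algebraMap A B h) :=
    ((Ideal.qoutMapEquivTensorQout (S := B) (I := I)).isSMulRegular_congr (algebraMap A B h)).mpr h3
  rw [isSMulRegular_iff_right_eq_zero_of_smul] at h4
  have h5 := h4 (Ideal.Quotient.mk _ b) (by
    change Ideal.Quotient.mk _ (algebraMap A B h * b) = 0
    rwa [Ideal.Quotient.eq_zero_iff_mem])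
  rwa [Ideal.Quotient.eq_zero_iff_mem] at h5

/-- Membership in the extension of a radical ideal to a flat algebra can be checked at the primes over a
neighbourhood `T` of the minimal primes of the ideal. -/
theorem mem_map_of_forall [IsNoetherianRing A] [Module.Flat A B] (I : Ideal A) (hI : I.IsRadical)
    (T : Set (PrimeSpectrum A)) (hT : IsOpen T) (hmin : ∀ q : PrimeSpectrum A, q.asIdeal ∈ I.minimalPrimes → q ∈ T)
    (b : B) (hb : ∀ Q : PrimeSpectrum B, PrimeSpectrum.comap (algebraMap A B) Q ∈ T →
      ∃ s ∉ Q.asIdeal, s * b ∈ I.map (algebraMap A B)) : b ∈ I.map (algebraMap A B) := by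
  obtain ⟨s, hs⟩ := (PrimeSpectrum.isOpen_iff T).mp hT
  have hfin := I.finite_minimalPrimes_of_isNoetherianRing
  -- prime avoidance
  obtain ⟨h, hh1, hh2⟩ : ∃ h ∈ Ideal.span s, ∀ p ∈ I.minimalPrimes, h ∉ p := by
    by_contra hcon
    push Not at hcon
    have h1 : ((Ideal.span s : Ideal A) : Set A) ⊆ ⋃ p ∈ (hfin.toFinset : Set (Ideal A)), (p : Set A) := by
      intro x hx
      obtain ⟨p, hp, hxp⟩ := hcon x hx
      exact Set.mem_biUnion (by simpa using hp) hxp
    rw [Ideal.subset_union_prime (f := fun p : Ideal A => p) ⊥ ⊥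
      (fun p hp _ _ => ((Set.Finite.mem_toFinset hfin).mp hp).1.1)] at h1
    obtain ⟨p, hp, hsp⟩ := h1
    have hp' : p ∈ I.minimalPrimes := (Set.Finite.mem_toFinset hfin).mp hp
    have hpp := hp'.1.1
    have h2 := hmin ⟨p, hpp⟩ hp'
    have h3 : (⟨p, hpp⟩ : PrimeSpectrum A) ∈ Tᶜ := by
      rw [hs, PrimeSpectrum.mem_zeroLocus]
      exact fun x hx => hsp (Ideal.subset_span hx)
    exact h3 h2
  have hnzd : ∀ a : A, h * a ∈ I → a ∈ I := by
    intro a ha
    rw [← hI.radical, Ideal.radical_eq_sInf, Submodule.mem_sInf]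
    rintro p ⟨hIp, hp⟩
    obtain ⟨q, hq, hqp⟩ := Ideal.exists_minimalPrimes_le hIp
    have hq' := hq.1.1
    exact hqp ((hq'.mem_or_mem (hq.1.2 ha)).resolve_left (hh2 q hq))
  have hT' : ∀ q : PrimeSpectrum A, h ∉ q.asIdeal → q ∈ T := by
    intro q hq
    by_contra hqT
    have h3 : q ∈ Tᶜ := hqT
    rw [hs, ← PrimeSpectrum.zeroLocus_span, PrimeSpectrum.mem_zeroLocus] at h3
    exact hq (h3 hh1)
  have key : algebraMap A B h ∈ ((I.map (algebraMap A B)).colon {b}).radical := by
    rw [Ideal.radical_eq_sInf, Submodule.mem_sInf]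
    rintro Q ⟨hQ, hQp⟩
    by_contra hhQ
    obtain ⟨s, hs1, hs2⟩ := hb ⟨Q, hQp⟩ (hT' _ hhQ)
    refine hs1 (hQ ?_)
    rw [Submodule.mem_colon_singleton]
    exact hs2
  obtain ⟨n, hn⟩ := key
  rw [Submodule.mem_colon_singleton] at hn
  replace hn : algebraMap A B h ^ n * b ∈ I.map (algebraMap A B) := hn

  induction n with
  | zero => simpa using hn
  | succ n ih =>
    rw [pow_succ', mul_assoc] at hn
    exact ih (mem_map_of_mul_mem I h hnzd hn)

end K615.PrincDesc
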