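import Groth.Agent.AbVar.K510.Dense
import Groth.Agent.Sga3B.BcPts
import Groth.Agent.Sga3B.DSPts
import Groth.Agent.Etdl.H432.Sec
import Groth.Agent.AbSch.K448.SmoothConn
import Groth.Agent.Grpsch.AbBC

/-!
# Density of torsion for smooth schemes over abelian schemes

`p : X ⟶ T` smooth, `T` an abelian scheme over `S`, `t : Spec Ω ⟶ S` a geometric point, `l` invertible in `Ω`.
* `ext_of_torsion`: morphisms from `X_Ω` which agree on the points over the `l`-power torsion of `T` are equal.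
-/

set_option autoImplicit false
universe u
open CategoryTheory CategoryTheory.Limits MonoidalCategory CartesianMonoidalCategory MonObj AlgebraicGeometry Opposite

noncomputable section

namespace K615.TorsDense

open Groth.Agent.Books.AlgPts

theorem dense_ext {Ω : Type u} [Field Ω] [IsAlgClosed Ω] {X' T' A' : Over (Spec (CommRingCat.of Ω))} [GrpObj T']
    [IsCommMonObj T'] [IsProper T'.hom] [GeometricallyIntegral T'.hom] (q : X' ⟶ T') (hq : IsOpenMap q.left)
    [IsReduced X'.left] [IsSeparated A'.hom] (c d : X' ⟶ A') (l : ℕ) (hl : (l : Ω) ≠ 0) (hl2 : 2 ≤ l)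
    (h : ∀ (n : ℕ) (W : Over (Spec (CommRingCat.of Ω))) (w : W ⟶ X'), (w ≫ q) ^ (l ^ n) = 1 → w ≫ c = w ≫ d) :
    c = d := by
  have hi : IsClosedImmersion (equalizer.ι c d).left := inferInstance
  have hs : Surjective (equalizer.ι c d).left := by
    constructor
    by_contra hne
    rw [← Set.range_eq_univ] at hne
    have hO : IsOpen (Set.range (equalizer.ι c d).left)ᶜ :=
      (equalizer.ι c d).left.isClosedEmbedding.isClosed_range.isOpen_compl
    have hO' : ((Set.range (equalizer.ι c d).left)ᶜ).Nonempty := Set.nonempty_compl.mpr hne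
    obtain ⟨_, ⟨u, hu, rfl⟩, x, ⟨n, hn⟩, hx⟩ := (K510.Dense.dense T' l hl hl2).inter_open_nonempty _ (hq _ hO)
      (hO'.image _)
    obtain ⟨P, a, b, hab, -, hpt⟩ := Groth.Agent.Etdl.H432.Sec.exists_pb q x
    obtain ⟨y, hy, -⟩ := hpt u (IsLocalRing.closedPoint Ω) hx.symm
    have h1 : (a ≫ q) ^ (l ^ n) = 1 := by
      rw [hab, ← MonObj.comp_pow, hn, MonObj.comp_one]
    have h2 := h n P a h1
    apply hu
    refine ⟨(equalizer.lift a h2).left y, ?_⟩
    rw [← Scheme.Hom.comp_apply, ← Over.comp_left, equalizer.lift_ι]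
    exact hy
  have hiso : IsIso (equalizer.ι c d).left := isIso_of_isClosedImmersion_of_surjective _
  have hw : (equalizer.ι c d).left ≫ c.left = (equalizer.ι c d).left ≫ d.left := by
    rw [← Over.comp_left, equalizer.condition, Over.comp_left]
  apply Over.OverMorphism.ext
  rwa [cancel_epi] at hw

section Transfer

open Groth.Agent.Sga3B.BcPts

variable {S : Scheme.{u}}

/-- `X_Ω` over `S` -/
def kap {Ω : Scheme.{u}} (t : Ω ⟶ S) (X : Over S) : (Over.map t).obj (Red.bc t X) ≅ X ⊗ Over.mk t :=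
  Over.isoMk (Iso.refl _) (by
    change 𝟙 _ ≫ pullback.fst X.hom t ≫ X.hom = pullback.snd X.hom t ≫ t
    rw [Category.id_comp, pullback.condition])

theorem kap_fst {Ω : Scheme.{u}} (t : Ω ⟶ S) (X : Over S) :
    (kap t X).hom ≫ fst X (Over.mk t) = (bcEquiv t (Red.bc t X) X).symm (𝟙 _) := by
  have h1 : (bcEquiv t (Red.bc t X) X).symm (𝟙 _) = (Over.mapPullbackAdj t).counit.app X := by
    change ((Over.mapPullbackAdj t).homEquiv _ _).symm (𝟙 _) = _
    rw [Adjunction.homEquiv_counit, CategoryTheory.Functor.map_id, Category.id_comp]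
  rw [h1]
  apply Over.OverMorphism.ext
  rw [Over.mapPullbackAdj_counit_app]
  change 𝟙 _ ≫ pullback.fst X.hom t = pullback.fst X.hom t
  rw [Category.id_comp]

theorem bcEquiv_symm_left {Ω : Scheme.{u}} (t : Ω ⟶ S) (X : Over S) {W : Over Ω} (w : W ⟶ Red.bc t X) :
    ((bcEquiv t W X).symm w).left = w.left ≫ pullback.fst X.hom t := by
  have h1 : (bcEquiv t W X).symm w = (Over.map t).map w ≫ (kap t X).hom ≫ fst X (Over.mk t) := by
    rw [kap_fst, ← comp_bcEquiv_symm, Category.comp_id]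
  rw [h1]
  change w.left ≫ 𝟙 _ ≫ pullback.fst X.hom t = _
  rw [Category.id_comp]

theorem pow_left {Ω : Scheme.{u}} (t : Ω ⟶ S) (T : Over S) [GrpObj T] (m : ℕ) :
    (𝟙 (Red.bc t T) ^ m : _ ⟶ _).left ≫ pullback.fst T.hom t = ((fst T (Over.mk t)) ^ m : _ ⟶ _).left := by
  rw [← bcEquiv_symm_left]
  have h2 : ∀ (y : Red.bc t T ⟶ Red.bc t T), ((bcEquiv t _ T).symm y) ^ m = (bcEquiv t _ T).symm (y ^ m) :=
    fun y => (map_pow (bcMulEquiv t (Red.bc t T) T).symm y m).symm
  rw [← h2, ← kap_fst, ← MonObj.comp_pow]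
  change 𝟙 _ ≫ _ = _
  rw [Category.id_comp]

theorem ext_of_torsion {X T A : Over S} [GrpObj T] [IsCommMonObj T] [IsProper T.hom] [Smooth T.hom]
    [GeometricallyConnected T.hom] (p : X ⟶ T) [Smooth p.left] [IsSeparated A.hom] {Ω : Type u} [Field Ω]
    [IsAlgClosed Ω] (t : Spec (CommRingCat.of Ω) ⟶ S) (c d : X ⊗ Over.mk t ⟶ A) (l : ℕ) (hl : (l : Ω) ≠ 0)
    (hl2 : 2 ≤ l)
    (h : ∀ (n : ℕ) (W : Over S) (w : W ⟶ X ⊗ Over.mk t), ((w ≫ fst X _) ≫ p) ^ (l ^ n) = 1 → w ≫ c = w ≫ d) :
    c = d := by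
  have i1 : GeometricallyIntegral T.hom := K448.SmoothConn.geometricallyIntegral T.hom
  have i2 : GeometricallyIntegral (Red.bc t T).hom := inferInstanceAs (GeometricallyIntegral (pullback.snd T.hom t))
  have i3 : IsProper (Red.bc t T).hom := inferInstanceAs (IsProper (pullback.snd T.hom t))
  have i4 : IsCommMonObj (Red.bc t T) := inferInstance
  have i5 : IsSeparated (Red.bc t A).hom := inferInstanceAs (IsSeparated (pullback.snd A.hom t))
  have i6 : Smooth X.hom := by
    rw [← Over.w p]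
    infer_instance
  have i7 : Smooth (Red.bc t X).hom := inferInstanceAs (Smooth (pullback.snd X.hom t))
  have i8 : IsReduced (Red.bc t X).left := by
    have := Groth.Agent.S1628.isReduced_stalk_of_smooth (Red.bc t X).hom
    exact isReduced_of_isReduced_stalk _
  let q : Red.bc t X ⟶ Red.bc t T := (Over.pullback t).map p
  have i9 : Smooth q.left := MorphismProperty.of_isPullback
    (Groth.Agent.Grpsch.AbBC.isPullback_pullback_map t p).flip ‹Smooth p.left›
  have hkey : bcEquiv t (Red.bc t X) A ((kap t X).hom ≫ c) = bcEquiv t (Red.bc t X) A ((kap t X).hom ≫ d) := by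
    refine dense_ext q q.left.isOpenMap _ _ l hl hl2 fun n W w hw => ?_
    rw [← comp_bcEquiv, ← comp_bcEquiv, ← Category.assoc, ← Category.assoc]
    congr 1
    refine h n _ _ ?_
    have h1 : (((Over.map t).map w ≫ (kap t X).hom) ≫ fst X (Over.mk t)) = (bcEquiv t W X).symm w := by
      rw [Category.assoc, kap_fst, ← comp_bcEquiv_symm, Category.comp_id]
    rw [h1, ← bcEquiv_symm_comp]
    have h2 : ∀ (y : W ⟶ Red.bc t T) (m : ℕ), ((bcEquiv t W T).symm y) ^ m = (bcEquiv t W T).symm (y ^ m) :=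
      fun y m => (map_pow (bcMulEquiv t W T).symm y m).symm
    have h3 : (bcEquiv t W T).symm 1 = 1 := map_one (bcMulEquiv t W T).symm
    rw [h2]
    change (bcEquiv t W T).symm ((w ≫ q) ^ (l ^ n)) = 1
    rw [hw, h3]
  have h4 := (bcEquiv t (Red.bc t X) A).injective hkey
  rwa [cancel_epi] at h4

end Transfer

end K615.TorsDense
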