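import Groth.Agent.AbSch.K615.GraphGlue
import Groth.Agent.AbSch.K615.TorsDense
import Groth.Agent.AbSch.K454.MulEpi
import Groth.Agent.AbSch.K448.MulFibre
import Groth.Agent.Lefpen.H416.NormalBase
import Groth.Agent.RatRes.K97.ModTools
import Groth.Agent.AbSch.K595.Chart

/-!
# Torsion pieces of a smooth scheme over an abelian scheme

`p : X ⟶ T` smooth, `T` an abelian scheme over `S`, `U ⟶ S` an `S`-scheme over which `m` is invertible.
* `exists_piece`: the part `Z` of `X × U` which lies over the `m`-torsion of `T` is smooth over `U`.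
-/

set_option autoImplicit false
universe u
open CategoryTheory CategoryTheory.Limits MonoidalCategory CartesianMonoidalCategory MonObj AlgebraicGeometry Opposite

noncomputable section

namespace K615.TorsPiece

open Groth.Agent.Sga3B.BcPts

section Piece

variable {S : Scheme.{u}} {X T U : Over S} [GrpObj T]

theorem etale_mu [IsCommMonObj T] [Smooth T.hom] [IsProper T.hom] [GeometricallyConnected T.hom] (m : ℕ)
    (hm : IsUnit ((m : ℤ) : Γ(U.left, ⊤))) :
    Etale (lift ((fst T U) ^ m) (snd T U) : T ⊗ U ⟶ T ⊗ U).left := by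
  have i1 : IsProper (Red.bc U.hom T).hom := inferInstanceAs (IsProper (pullback.snd T.hom U.hom))
  have i2 : Smooth (Red.bc U.hom T).hom := inferInstanceAs (Smooth (pullback.snd T.hom U.hom))
  have i3 : GeometricallyConnected (Red.bc U.hom T).hom :=
    inferInstanceAs (GeometricallyConnected (pullback.snd T.hom U.hom))
  have i4 : GeometricallyReduced (Red.bc U.hom T).hom := K448.SmoothConn.geometricallyReduced _
  have h1 := (K448.MulFibre.isFinite_and_etale_zpow (Red.bc U.hom T) (m : ℤ) hm).2
  rw [zpow_natCast] at h1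
  have h2 : (lift ((fst T U) ^ m) (snd T U) : T ⊗ U ⟶ T ⊗ U).left = (𝟙 (Red.bc U.hom T) ^ m : _ ⟶ _).left := by
    apply pullback.hom_ext
    · have e1 : (lift ((fst T U) ^ m) (snd T U) : T ⊗ U ⟶ T ⊗ U).left ≫ pullback.fst T.hom U.hom =
          ((fst T U) ^ m : T ⊗ U ⟶ T).left := by
        change (lift ((fst T U) ^ m) (snd T U) : T ⊗ U ⟶ T ⊗ U).left ≫ (fst T U).left = _
        rw [← Over.comp_left, lift_fst]
      rw [e1]
      exact (TorsDense.pow_left U.hom T m).symm
    · have e1 : (lift ((fst T U) ^ m) (snd T U) : T ⊗ U ⟶ T ⊗ U).left ≫ pullback.snd T.hom U.hom =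
          (snd T U).left := by
        change (lift ((fst T U) ^ m) (snd T U) : T ⊗ U ⟶ T ⊗ U).left ≫ (snd T U).left = _
        rw [← Over.comp_left, lift_snd]
      rw [e1]
      exact (Over.w (𝟙 (Red.bc U.hom T) ^ m)).symm
  rw [h2]
  exact h1

theorem isPullback_whiskerRight (p : X ⟶ T) (V : Over S) : IsPullback (p ▷ V) (fst X V) (fst T V) p := by
  refine IsPullback.of_isLimit (PullbackCone.IsLimit.mk (by rw [whiskerRight_fst])
    (fun s => lift s.snd (s.fst ≫ snd T V)) (fun s => ?_) (fun s => ?_) (fun s m h1 h2 => ?_))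
  · apply CartesianMonoidalCategory.hom_ext
    · rw [Category.assoc, whiskerRight_fst, lift_fst_assoc, s.condition]
    · rw [Category.assoc, whiskerRight_snd, lift_snd]
  · rw [lift_fst]
  · apply CartesianMonoidalCategory.hom_ext
    · rw [lift_fst, ← h2]
    · rw [lift_snd, ← h1, Category.assoc, whiskerRight_snd]

theorem exists_piece [IsCommMonObj T] [Smooth T.hom] [IsProper T.hom] [GeometricallyConnected T.hom] (p : X ⟶ T)
    [Smooth p.left] [IsSeparated X.hom] [IsSeparated U.hom] (m : ℕ) (hm : IsUnit ((m : ℤ) : Γ(U.left, ⊤))) :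
    ∃ (Z : Over S) (z : Z ⟶ X) (u : Z ⟶ U), Smooth u.left ∧ IsSeparated Z.hom ∧ (z ≫ p) ^ m = 1 ∧
      ∀ (W : Over S) (w : W ⟶ X) (_ : W ⟶ U), (w ≫ p) ^ m = 1 → ∃ ζ : W ⟶ Z, ζ ≫ z = w := by
  have hμ := etale_mu (S := S) (T := T) (U := U) m hm
  have hp : Smooth (p ▷ U).left :=
    MorphismProperty.of_isPullback ((isPullback_whiskerRight p U).map (Over.forget S)).flip ‹Smooth p.left›
  let f : X ⊗ U ⟶ T ⊗ U := (p ▷ U) ≫ lift ((fst T U) ^ m) (snd T U)
  let g : U ⟶ T ⊗ U := lift (1 : U ⟶ T) (𝟙 U)
  have hf : Smooth f.left := by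
    change Smooth ((p ▷ U).left ≫ (lift ((fst T U) ^ m) (snd T U) : T ⊗ U ⟶ T ⊗ U).left)
    infer_instance
  have hpb := (IsPullback.of_hasPullback f g).map (Over.forget S)
  have hsm : Smooth (pullback.snd f g).left := MorphismProperty.of_isPullback hpb hf
  have hg : Mono g.left := by
    have h1 : g.left ≫ (snd T U).left = 𝟙 _ := by
      rw [← Over.comp_left, lift_snd]
      rfl
    have : IsSplitMono g.left := ⟨⟨⟨(snd T U).left, h1⟩⟩⟩
    infer_instance
  have hfst : Mono (pullback.fst f g).left := by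
    have : MorphismProperty.monomorphisms Scheme.{u} ((Over.forget S).map (pullback.fst f g)) :=
      MorphismProperty.of_isPullback hpb.flip (show MorphismProperty.monomorphisms Scheme.{u} g.left from hg)
    exact this
  have hXU : IsSeparated (X ⊗ U).hom := by
    change IsSeparated (pullback.fst X.hom U.hom ≫ X.hom)
    infer_instance
  have hsep : IsSeparated (pullback f g).hom := by
    have h1 : (pullback f g).hom = (pullback.fst f g).left ≫ (X ⊗ U).hom := (Over.w _).symm
    rw [h1]
    infer_instance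
  refine ⟨pullback f g, pullback.fst f g ≫ fst X U, pullback.snd f g, hsm, hsep, ?_, fun W w v hw => ?_⟩
  · have h1 := congrArg (· ≫ fst T U) (pullback.condition (f := f) (g := g))
    simp only [f, g, Category.assoc, lift_fst, MonObj.comp_one, MonObj.comp_pow] at h1
    rw [whiskerRight_fst] at h1
    rw [Category.assoc]
    exact h1
  · refine ⟨pullback.lift (lift w v) v ?_, ?_⟩
    · apply CartesianMonoidalCategory.hom_ext
      · simp only [f, g, Category.assoc, lift_fst, MonObj.comp_one, MonObj.comp_pow]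
        rw [whiskerRight_fst, lift_fst_assoc, hw]
      · simp only [f, g, Category.assoc, lift_snd, Category.comp_id]
        rw [whiskerRight_snd, lift_snd]
    · rw [← Category.assoc, pullback.lift_fst, lift_fst]

end Piece

end K615.TorsPiece
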